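import Mathlib.GroupTheory.SpecificGroups.Alternating.Simple
import Mathlib.GroupTheory.SpecificGroups.Alternating.Centralizer
import Mathlib.GroupTheory.IndexNormal
import Mathlib.GroupTheory.Nilpotent

/-!
# Facts about alternating groups and homomorphisms onto simple groups
-/

set_option autoImplicit false

namespace CfsgLib.ThompsonWielandt

open Subgroup Equiv

section Perm

variable {α : Type*} [Fintype α] [DecidableEq α]

theorem centralizer_alternating (h : 4 ≤ Nat.card α) :
    centralizer (alternatingGroup α : Set (Perm α)) = ⊥ := by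
  rw [eq_bot_iff]
  intro g hg
  rw [mem_bot]
  ext a
  by_contra hne
  have hne' : g a ≠ a := hne
  have hcard : 1 < (({a, g a} : Finset α)ᶜ).card := by
    rw [Finset.card_compl, Finset.card_pair hne'.symm, ← Nat.card_eq_fintype_card]
    omega
  obtain ⟨c, d, hc, hd, hcd⟩ := Finset.one_lt_card_iff.1 hcard
  simp only [Finset.mem_compl, Finset.mem_insert, Finset.mem_singleton, not_or] at hc hd
  have hk : swap (g a) c * swap (g a) d ∈ alternatingGroup α := by
    rw [Perm.mem_alternatingGroup, map_mul, Perm.sign_swap (Ne.symm hc.2),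
      Perm.sign_swap (Ne.symm hd.2)]
    rfl
  have := congrArg (fun f : Perm α => f a) (mem_centralizer_iff.1 hg _ hk)
  simp only [Perm.coe_mul, Function.comp_apply] at this
  rw [swap_apply_of_ne_of_ne hne'.symm (Ne.symm hd.1),
    swap_apply_of_ne_of_ne hne'.symm (Ne.symm hc.1), swap_apply_left,
    swap_apply_of_ne_of_ne hd.2 hcd.symm] at this
  exact hd.2 this

theorem eq_bot_or_alt_le (h5 : 5 ≤ Nat.card α) {N : Subgroup (Perm α)}
    (hn : alternatingGroup α ≤ normalizer (N : Set (Perm α))) :
    N = ⊥ ∨ alternatingGroup α ≤ N := by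
  haveI := alternatingGroup.isSimpleGroup (α := α) h5
  haveI : (N.subgroupOf (alternatingGroup α)).Normal := normal_subgroupOf_iff_le_normalizer_inf.2 (by
    refine (le_inf hn le_normalizer).trans inf_normalizer_le_normalizer_inf)
  rcases (inferInstance : (N.subgroupOf (alternatingGroup α)).Normal).eq_bot_or_eq_top with h | h
  · left
    rw [eq_bot_iff, ← centralizer_alternating (α := α) (by omega)]
    intro n hn'
    rw [mem_centralizer_iff]
    intro x hx
    have h1 : x * n * x⁻¹ * n⁻¹ ∈ N := mul_mem ((mem_normalizer_iff.1 (hn hx) n).1 hn') (inv_mem hn')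
    have h2 : x * n * x⁻¹ * n⁻¹ ∈ alternatingGroup α := by
      have : n * x⁻¹ * n⁻¹ ∈ alternatingGroup α :=
        (inferInstance : (alternatingGroup α).Normal).conj_mem _ (inv_mem hx) n
      simpa [mul_assoc] using mul_mem hx this
    have h3 : (⟨_, h2⟩ : alternatingGroup α) ∈ N.subgroupOf (alternatingGroup α) := h1
    rw [h, mem_bot] at h3
    have h4 : x * n * x⁻¹ * n⁻¹ = 1 := congrArg Subtype.val h3
    rw [mul_inv_eq_one, mul_inv_eq_iff_eq_mul] at h4
    exact h4
  · exact Or.inr (subgroupOf_eq_top.1 h)

/-- Extension of a permutation of the points other than `x`. -/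
def fixHom (x : α) : Perm {y // y ≠ x} →* Perm α := Perm.ofSubtype

theorem fixHom_injective (x : α) : Function.Injective (fixHom x) := Perm.ofSubtype_injective

theorem mem_range_fixHom {x : α} {g : Perm α} : g ∈ (fixHom x).range ↔ g x = x := by
  rw [fixHom, Perm.mem_range_ofSubtype_iff]
  constructor
  · intro h
    by_contra hx
    exact h (Perm.mem_support.2 hx) rfl
  · intro h y hy hyx
    rw [SetLike.mem_coe, Perm.mem_support] at hy
    rw [hyx] at hy
    exact hy h

/-- The alternating group on the points other than `x`. -/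
def altStab (x : α) : Subgroup (Perm α) := (alternatingGroup {y // y ≠ x}).map (fixHom x)

theorem mem_altStab {x : α} {g : Perm α} :
    g ∈ altStab x ↔ g ∈ alternatingGroup α ∧ g x = x := by
  constructor
  · rintro ⟨σ, hσ, rfl⟩
    refine ⟨?_, mem_range_fixHom.1 ⟨σ, rfl⟩⟩
    rw [Perm.mem_alternatingGroup, fixHom, Perm.sign_ofSubtype]
    exact hσ
  · rintro ⟨hg, hx⟩
    obtain ⟨σ, rfl⟩ := mem_range_fixHom.2 hx
    rw [Perm.mem_alternatingGroup, fixHom, Perm.sign_ofSubtype] at hg
    exact ⟨σ, hg, rfl⟩

theorem card_ne_subtype (x : α) : Nat.card {y // y ≠ x} = Nat.card α - 1 := by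
  simp [Nat.card_eq_fintype_card]

theorem two_mul_card_altStab (x : α) (h : 3 ≤ Nat.card α) :
    2 * Nat.card (altStab x) = (Nat.card α - 1).factorial := by
  haveI : Nontrivial {y // y ≠ x} := by
    rw [← Finite.one_lt_card_iff_nontrivial, card_ne_subtype]; omega
  rw [altStab, card_map_of_injective (fixHom_injective x), two_mul_nat_card_alternatingGroup,
    Nat.card_perm, card_ne_subtype]

theorem centralizer_altStab (x : α) (h5 : 5 ≤ Nat.card α) {g : Perm α} (hx : g x = x)
    (hc : g ∈ centralizer (altStab x : Set (Perm α))) : g = 1 := by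
  obtain ⟨σ, rfl⟩ := mem_range_fixHom.2 hx
  have : σ ∈ centralizer (alternatingGroup {y // y ≠ x} : Set (Perm {y // y ≠ x})) := by
    rw [mem_centralizer_iff]
    intro τ hτ
    apply fixHom_injective x
    rw [map_mul, map_mul]
    exact mem_centralizer_iff.1 hc _ ⟨τ, hτ, rfl⟩
  rw [centralizer_alternating (by rw [card_ne_subtype]; omega), mem_bot] at this
  rw [this, map_one]

theorem eq_bot_or_altStab_le (x : α) (h6 : 6 ≤ Nat.card α) {N : Subgroup (Perm α)}
    (hN : ∀ g ∈ N, g x = x) (hn : altStab x ≤ normalizer (N : Set (Perm α))) :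
    N = ⊥ ∨ altStab x ≤ N := by
  have hmap : (N.comap (fixHom x)).map (fixHom x) = N :=
    map_comap_eq_self fun g hg => mem_range_fixHom.2 (hN g hg)
  rcases eq_bot_or_alt_le (α := {y // y ≠ x}) (by rw [card_ne_subtype]; omega)
    (N := N.comap (fixHom x)) (fun σ hσ => by
      have := hn (⟨σ, hσ, rfl⟩ : fixHom x σ ∈ altStab x)
      rw [mem_normalizer_iff] at this ⊢
      intro τ
      simpa [mem_comap] using this (fixHom x τ)) with h | h
  · exact Or.inl (by rw [← hmap, h, Subgroup.map_bot])
  · exact Or.inr (hmap ▸ map_mono h)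

theorem altStab_not_nilpotent (x : α) (h6 : 6 ≤ Nat.card α) : ¬ Group.IsNilpotent (altStab x) := by
  intro h
  haveI := alternatingGroup.isSimpleGroup (α := {y // y ≠ x}) (by rw [card_ne_subtype]; omega)
  haveI : Group.IsNilpotent (alternatingGroup {y // y ≠ x}) :=
    (Group.isNilpotent_congr ((alternatingGroup {y // y ≠ x}).equivMapOfInjective _
      (fixHom_injective x))).2 h
  have hc := alternatingGroup.center_eq_bot (α := {y // y ≠ x})
    (by rw [card_ne_subtype]; omega)
  haveI := IsSimpleGroup.toNontrivial (G := alternatingGroup {y // y ≠ x})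
  have := Group.IsNilpotent.center_ne_bot (G := alternatingGroup {y // y ≠ x})
  exact this hc

end Perm

section NoMap

variable {H S Q : Type*} [Group H] [Group S] [Group Q] [Finite H] [Finite Q] [IsSimpleGroup S]

/-- A surjection onto a simple group stays one on the kernel of a map to a smaller group. -/
theorem map_ker_eq_top {f : H →* S} (ψ : H →* Q) (hQ : Nat.card Q < Nat.card S)
    {K : Subgroup H} (hf : K.map f = ⊤) : (K ⊓ ψ.ker).map f = ⊤ := by
  have hn : ((K ⊓ ψ.ker).map f).Normal := by
    rw [← normalizer_eq_top_iff, eq_top_iff, ← hf]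
    refine le_trans (map_mono ?_) (le_normalizer_map f)
    exact (le_inf le_normalizer (le_top.trans (normalizer_eq_top_iff.2 inferInstance).ge)).trans
      inf_normalizer_le_normalizer_inf
  refine hn.eq_bot_or_eq_top.resolve_left fun h => ?_
  rw [Subgroup.map_eq_bot_iff] at h
  have h1 : (f.comp K.subtype).range = ⊤ := by rw [MonoidHom.range_comp, range_subtype, hf]
  have h2 : Nat.card S = (f.comp K.subtype).ker.index := by
    rw [index_ker, h1, card_top]
  have h3 : (ψ.comp K.subtype).ker ≤ (f.comp K.subtype).ker := fun k hk => h ⟨k.2, hk⟩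
  have h4 := index_dvd_of_le h3
  rw [← h2, index_ker] at h4
  exact hQ.not_ge (Nat.le_of_dvd Nat.card_pos (h4.trans (card_subgroup_dvd_card _)))

/-- A group with a point-separating family of maps to groups smaller than the simple group `S`
has no surjection onto `S`. -/
theorem no_map_onto_simple {ι : Type*} [Finite ι] (ψ : ι → H →* Q)
    (hψ : ∀ h : H, (∀ i, ψ i h = 1) → h = 1) (hQ : Nat.card Q < Nat.card S) (f : H →* S)
    (K : Subgroup H) (hf : K.map f = ⊤) : False := by
  haveI := Fintype.ofFinite ι
  have key : ∀ s : Finset ι, (K ⊓ ⨅ i ∈ s, (ψ i).ker).map f = ⊤ := by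
    classical
    intro s
    induction s using Finset.induction with
    | empty => simpa using hf
    | insert i s _ ih =>
      rw [Finset.iInf_insert, inf_comm (ψ i).ker, ← inf_assoc]
      exact map_ker_eq_top (ψ i) hQ ih
  have h0 : (K ⊓ ⨅ i ∈ (Finset.univ : Finset ι), (ψ i).ker) = ⊥ := by
    refine eq_bot_iff.2 (inf_le_right.trans fun h hh => ?_)
    rw [mem_bot]
    refine hψ h fun i => ?_
    have := mem_iInf.1 (mem_iInf.1 hh i) (Finset.mem_univ i)
    exact this
  have := key Finset.univ
  rw [h0, Subgroup.map_bot] at this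
  exact bot_ne_top this

end NoMap

end CfsgLib.ThompsonWielandt
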