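import Cfsg.Agent.ThompsonWielandt.FStar

/-!
# Two adjacent point stabilizers of a primitive group
-/

set_option autoImplicit false

namespace CfsgLib.ThompsonWielandt

open Subgroup CfsgLib.CharP MulAction

variable {G : Type*} [Group G]

theorem mem_coreIn {A K : Subgroup G} {x : G} :
    x ∈ coreIn A K ↔ x ∈ A ∧ ∀ k ∈ A, k * x * k⁻¹ ∈ K := by
  constructor
  · rintro ⟨y, hy, rfl⟩
    exact ⟨y.2, fun k hk => mem_subgroupOf.1 (hy ⟨k, hk⟩)⟩
  · rintro ⟨hx, h⟩
    exact ⟨⟨x, hx⟩, fun k => mem_subgroupOf.2 (h k k.2), rfl⟩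

variable {Ω : Type*} [MulAction G Ω]

/-- The kernel of a point stabilizer on a suborbit. -/
theorem ker_toPerm_orbit (A : Subgroup G) (b : Ω) :
    (toPermHom A (orbit A b)).ker = (coreIn A (A ⊓ stabilizer G b)).subgroupOf A := by
  ext x
  rw [MonoidHom.mem_ker, mem_subgroupOf, mem_coreIn]
  constructor
  · refine fun h => ⟨x.2, fun k hk => Subgroup.mem_inf.2 ⟨mul_mem (mul_mem hk x.2) (inv_mem hk), ?_⟩⟩
    have := congrArg Subtype.val (Equiv.congr_fun h ⟨(⟨k, hk⟩⁻¹ : A) • b, mem_orbit _ _⟩)
    have h2 : (x : G) • k⁻¹ • b = k⁻¹ • b := this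
    show (k * x * k⁻¹) • b = b
    rw [mul_smul, mul_smul, h2, smul_inv_smul]
  · rintro ⟨-, h⟩
    refine Equiv.ext fun c => Subtype.ext ?_
    obtain ⟨k, hk⟩ := c.2
    have hk' : ((k : G) • b : Ω) = c := hk
    have := (Subgroup.mem_inf.1 (h _ (inv_mem k.2))).2
    rw [inv_inv, mem_stabilizer_iff, mul_smul, mul_smul, inv_smul_eq_iff] at this
    show (x : G) • (c : Ω) = c
    rw [← hk', this]

theorem card_orbit_subgroup (A : Subgroup G) (b : Ω) :
    Nat.card (orbit A b) = (stabilizer G b).relIndex A := by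
  rw [Nat.card_coe_set_eq, ← index_stabilizer]
  rfl

variable [Finite G]

/-- An element-stabilizer in a symmetric group. -/
theorem card_stabilizer_perm {α : Type*} [Finite α] (x : α) :
    Nat.card (stabilizer (Equiv.Perm α) x) = (Nat.card α - 1).factorial := by
  haveI : Nonempty α := ⟨x⟩
  have h := card_mul_index (stabilizer (Equiv.Perm α) x)
  rw [index_stabilizer_of_transitive (Equiv.Perm α) x, Nat.card_perm] at h
  have hpos : 0 < Nat.card α := Nat.card_pos
  refine Nat.eq_of_mul_eq_mul_right hpos ?_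
  rw [h, mul_comm, Nat.mul_factorial_pred hpos.ne']

/-- The data of two adjacent point stabilizers. -/
structure Adj (a b : Ω) (d : ℕ) : Prop where
  pair : Pair (stabilizer G a) (stabilizer G b)
  card_eq : Nat.card (stabilizer G b) = Nat.card (stabilizer G a)
  left : Nat.card (orbit (stabilizer G a) b) = d
  right : Nat.card (orbit (stabilizer G b) a) = d

theorem relIndex_mul_card_inf (H K : Subgroup G) :
    H.relIndex K * Nat.card (H ⊓ K : Subgroup G) = Nat.card K := by
  rw [← inf_relIndex_right, mul_comm, relIndex,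
    ← Nat.card_congr (subgroupOfEquivOfLe (inf_le_right : H ⊓ K ≤ K)).toEquiv]
  exact card_mul_index _

theorem adj_of_primitive [FaithfulSMul G Ω] [Finite Ω] (hprim : IsPreprimitive G Ω) (a b : Ω)
    (d : ℕ) (hd : Nat.card (orbit (stabilizer G a) b) = d) (h2 : 2 ≤ d) :
    Adj (G := G) a b d := by
  haveI := hprim
  have hab : a ≠ b := by
    rintro rfl
    rw [card_orbit_subgroup, relIndex_self] at hd
    omega
  haveI : Nontrivial Ω := ⟨a, b, hab⟩
  obtain ⟨g, hg⟩ := MulAction.exists_smul_eq G a b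
  have hB : stabilizer G b = (stabilizer G a).map (MulAut.conj g).toMonoidHom := by
    rw [← hg, stabilizer_smul_eq_stabilizer_map_conj]
  have hcard : Nat.card (stabilizer G b) = Nat.card (stabilizer G a) := by
    rw [hB]
    exact card_map_of_injective (f := (MulAut.conj g).toMonoidHom) (MulAut.conj g).injective
  refine ⟨⟨IsPreprimitive.isCoatom_stabilizer_of_isPreprimitive (G := G) (X := Ω) a, ⟨g, hB.symm⟩,
    ?_, ?_⟩, hcard, hd, ?_⟩
  · intro h
    rw [card_orbit_subgroup, ← h, relIndex_self] at hd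
    omega
  · rw [eq_bot_iff]
    intro x hx
    rw [mem_bot]
    refine FaithfulSMul.eq_of_smul_eq_smul (α := Ω) fun c => ?_
    obtain ⟨k, hk⟩ := MulAction.exists_smul_eq G a c
    have h1 : (k⁻¹ * x * k) • a = a :=
      normalCore_le _ (by simpa using (inferInstance :
        (stabilizer G a).normalCore.Normal).conj_mem x hx k⁻¹)
    rw [mul_smul, mul_smul, hk, inv_smul_eq_iff, hk] at h1
    rw [h1, one_smul]
  · rw [card_orbit_subgroup] at hd ⊢
    have h3 := relIndex_mul_card_inf (stabilizer G a) (stabilizer G b)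
    have h4 := relIndex_mul_card_inf (stabilizer G b) (stabilizer G a)
    rw [hd, inf_comm] at h4
    rw [hcard, ← h4] at h3
    exact Nat.eq_of_mul_eq_mul_right Nat.card_pos h3

variable {a b : Ω} {d : ℕ} [Finite Ω]

theorem Adj.symm (h : Adj (G := G) a b d) : Adj (G := G) b a d :=
  ⟨h.pair.symm, h.card_eq.symm, h.right, h.left⟩

/-- The index of the second core divides `d! ((d-1)!)^d`. -/
theorem Adj.relIndex_second (h : Adj (G := G) a b d) :
    (second (stabilizer G a) (stabilizer G b)).relIndex (stabilizer G a) ∣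
      d.factorial * (d - 1).factorial ^ d := by
  set A := stabilizer G a
  set B := stabilizer G b
  set X := coreIn A (A ⊓ B)
  set Y := coreIn B (A ⊓ B)
  have hXA : X ≤ A := coreIn_le_left _ _
  rw [← relIndex_mul_relIndex _ _ _ (second_le_left A B) hXA, mul_comm]
  refine Nat.mul_dvd_mul ?_ ?_
  · rw [relIndex, ← ker_toPerm_orbit, index_ker, ← h.left, ← Nat.card_perm]
    exact card_subgroup_dvd_card _
  have hker : ∀ y : B, toPermHom B (orbit B a) y = 1 ↔ (y : G) ∈ Y := by
    intro y
    rw [← MonoidHom.mem_ker, ker_toPerm_orbit, mem_subgroupOf, inf_comm]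
  choose k hk using fun c : orbit A b => c.2
  have hconj : ∀ (c : orbit A b) (x : X), (k c : G)⁻¹ * x * (k c : G) ∈ X := fun c x =>
    (mem_normalizer_iff''.1 (le_normalizer_coreIn _ _ (k c).2) x).1 x.2
  have hXB : ∀ {x : G}, x ∈ X → x ∈ B := fun hx => ((coreIn_le A (A ⊓ B)) hx).2
  let S : Subgroup (Equiv.Perm (orbit B a)) := stabilizer _ (⟨a, mem_orbit_self a⟩ : orbit B a)
  have hS : ∀ (x : B), (x : G) ∈ X → toPermHom B (orbit B a) x ∈ S := fun x hx => by
    show toPermHom B (orbit B a) x (⟨a, mem_orbit_self a⟩ : orbit B a) = _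
    exact Subtype.ext (mem_stabilizer_iff.1 (hXA hx))
  let φ : X →* (orbit A b → S) :=
    { toFun := fun x c => ⟨toPermHom B (orbit B a) ⟨_, hXB (hconj c x)⟩, hS _ (hconj c x)⟩
      map_one' := by
        funext c
        refine Subtype.ext ?_
        show toPermHom B (orbit B a) _ = 1
        rw [← map_one (toPermHom B (orbit B a))]
        exact congrArg _ (Subtype.ext (by simp))
      map_mul' := fun x y => by
        funext c
        refine Subtype.ext ?_
        show toPermHom B (orbit B a) _ = toPermHom B (orbit B a) _ * toPermHom B (orbit B a) _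
        rw [← map_mul]
        refine congrArg _ (Subtype.ext ?_)
        simp [mul_assoc] }
  have hφ : φ.ker ≤ (second A B).subgroupOf X := by
    intro x hx
    rw [mem_subgroupOf, second, mem_coreIn]
    refine ⟨hXA x.2, fun l hl => ?_⟩
    refine ⟨(mem_normalizer_iff.1 (le_normalizer_coreIn _ _ hl) _).1 x.2, ?_⟩
    have hY : ∀ c : orbit A b, (k c : G)⁻¹ * x * (k c : G) ∈ Y := fun c =>
      (hker ⟨_, hXB (hconj c x)⟩).1 (congrArg Subtype.val (congrFun hx c))
    set c : orbit A b := ⟨(⟨l, hl⟩⁻¹ : A) • b, mem_orbit _ _⟩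
    have hm : (l * (k c : G)) ∈ B := by
      show (l * (k c : G)) • b = b
      have e : (k c : G) • b = l⁻¹ • b := hk c
      rw [mul_smul, e, smul_inv_smul]
    have := (mem_normalizer_iff.1 (le_normalizer_coreIn B (A ⊓ B) hm) _).1 (hY c)
    simpa [mul_assoc] using this
  refine (index_dvd_of_le hφ).trans ?_
  rw [index_ker]
  refine (card_subgroup_dvd_card _).trans ?_
  rw [Nat.card_fun, h.left, card_stabilizer_perm, h.right]

theorem Adj.card_dvd_of_second_eq_bot (h : Adj (G := G) a b d)
    (h0 : second (stabilizer G a) (stabilizer G b) = ⊥) :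
    Nat.card (stabilizer G a) ∣ d.factorial * (d - 1).factorial ^ d := by
  have := h.relIndex_second
  rwa [h0, relIndex_bot_left] at this

theorem Adj.card_dvd_or (h : Adj (G := G) a b d) :
    Nat.card (stabilizer G a) ∣ d.factorial * (d - 1).factorial ^ d ∨
      (second (stabilizer G a) (stabilizer G b) ≠ ⊥ ∧
        second (stabilizer G b) (stabilizer G a) ≠ ⊥) := by
  by_cases h1 : second (stabilizer G a) (stabilizer G b) = ⊥
  · exact Or.inl (h.card_dvd_of_second_eq_bot h1)
  by_cases h2 : second (stabilizer G b) (stabilizer G a) = ⊥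
  · left
    rw [← h.card_eq]
    exact h.symm.card_dvd_of_second_eq_bot h2
  exact Or.inr ⟨h1, h2⟩

end CfsgLib.ThompsonWielandt
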