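import Cfsg.Agent.ThompsonWielandt.AltStructure

/-!
# Subgroups of a product of two symmetric groups containing both alternating groups
-/

set_option autoImplicit false
set_option linter.unusedSectionVars false

noncomputable section

namespace CfsgLib.ThompsonWielandt

open Subgroup CfsgLib.CharP MulAction
open scoped Classical

attribute [local instance] Fintype.ofFinite

variable {α β : Type*} [Fintype α] [DecidableEq α] [Fintype β] [DecidableEq β]

/-- The three overgroups of `Alt × Alt` surjecting onto the first symmetric group. -/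
theorem classify_overgroup {H : Subgroup (Equiv.Perm α × Equiv.Perm β)}
    (h1 : ∀ σ ∈ alternatingGroup α, (σ, 1) ∈ H) (h2 : ∀ σ ∈ alternatingGroup β, (1, σ) ∈ H)
    (hodd : ∃ p ∈ H, p.1 ∉ alternatingGroup α) :
    H = ⊤ ∨ H = (⊤ : Subgroup (Equiv.Perm α)).prod (alternatingGroup β) ∨
      H = ((Equiv.Perm.sign.comp (MonoidHom.fst (Equiv.Perm α) (Equiv.Perm β))) *
        (Equiv.Perm.sign.comp (MonoidHom.snd (Equiv.Perm α) (Equiv.Perm β)))).ker := by
  set S : Subgroup (Equiv.Perm α) := H.comap (MonoidHom.inl _ _) with hS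
  set T : Subgroup (Equiv.Perm β) := H.comap (MonoidHom.inr _ _) with hT
  have hprod : ∀ σ τ, σ ∈ S → τ ∈ T → (σ, τ) ∈ H := fun σ τ hσ hτ => by
    simpa using mul_mem (show (σ, (1 : Equiv.Perm β)) ∈ H from hσ)
      (show ((1 : Equiv.Perm α), τ) ∈ H from hτ)
  have hST : ∀ p ∈ H, (p.1 ∈ S → p.2 ∈ T) ∧ (p.2 ∈ T → p.1 ∈ S) := by
    rintro ⟨σ, τ⟩ hp
    refine ⟨fun hσ => ?_, fun hτ => ?_⟩
    · show ((1 : Equiv.Perm α), τ) ∈ H
      simpa using mul_mem (inv_mem (show (σ, (1 : Equiv.Perm β)) ∈ H from hσ)) hp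
    · show (σ, (1 : Equiv.Perm β)) ∈ H
      simpa using mul_mem hp (inv_mem (show ((1 : Equiv.Perm α), τ) ∈ H from hτ))
  obtain ⟨p, hp, hpodd⟩ := hodd
  by_cases hS' : S = ⊤
  · by_cases hex : ∃ q ∈ H, q.2 ∉ alternatingGroup β
    · obtain ⟨q, hq, hqo⟩ := hex
      have hT' : T = ⊤ := sign_eq_one_or_mul h2 ((hST q hq).1 (hS' ▸ mem_top _)) hqo
      exact Or.inl (eq_top_iff.2 fun x _ => hprod x.1 x.2 (hS' ▸ mem_top _) (hT' ▸ mem_top _))
    · refine Or.inr (Or.inl (le_antisymm (fun x hx => Subgroup.mem_prod.2 ⟨mem_top _, ?_⟩) fun x hx =>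
        hprod x.1 x.2 (hS' ▸ mem_top _) (h2 _ (Subgroup.mem_prod.1 hx).2)))
      by_contra hc
      exact hex ⟨x, hx, hc⟩
  · have hSle : ∀ σ ∈ S, σ ∈ alternatingGroup α := fun σ hσ => by
      by_contra hc
      exact hS' (sign_eq_one_or_mul h1 hσ hc)
    have hTle : ∀ τ ∈ T, τ ∈ alternatingGroup β := fun τ hτ => by
      by_contra hc
      have hT' : T = ⊤ := sign_eq_one_or_mul h2 hτ hc
      exact hS' (sign_eq_one_or_mul h1 ((hST p hp).2 (hT' ▸ mem_top _)) hpodd)
    refine Or.inr (Or.inr (le_antisymm ?_ ?_))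
    · rintro ⟨σ, τ⟩ hx
      have h3 : σ ∈ alternatingGroup α ↔ τ ∈ alternatingGroup β :=
        ⟨fun hσ => hTle _ ((hST _ hx).1 (h1 _ hσ)), fun hτ => hSle _ ((hST _ hx).2 (h2 _ hτ))⟩
      rw [MonoidHom.mem_ker, MonoidHom.mul_apply]
      simp only [MonoidHom.comp_apply, MonoidHom.coe_fst, MonoidHom.coe_snd]
      simp only [Equiv.Perm.mem_alternatingGroup] at h3
      rcases Int.units_eq_one_or (Equiv.Perm.sign σ) with e | e <;>
        rcases Int.units_eq_one_or (Equiv.Perm.sign τ) with e' | e' <;> simp_all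
    · rintro ⟨σ, τ⟩ hx
      rw [MonoidHom.mem_ker, MonoidHom.mul_apply] at hx
      simp only [MonoidHom.comp_apply, MonoidHom.coe_fst, MonoidHom.coe_snd] at hx
      by_cases hσ : σ ∈ alternatingGroup α
      · refine hprod _ _ (h1 _ hσ) (h2 _ ?_)
        rw [Equiv.Perm.mem_alternatingGroup] at hσ ⊢
        rwa [hσ, one_mul] at hx
      · have hp2 : p.2 ∉ alternatingGroup β := fun hc => hS'
          (sign_eq_one_or_mul h1 ((hST p hp).2 (h2 _ hc)) hpodd)
        have h3 : σ * p.1⁻¹ ∈ alternatingGroup α := by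
          rw [Equiv.Perm.mem_alternatingGroup] at hσ hpodd ⊢
          rw [map_mul, map_inv, (Int.units_eq_one_or _).resolve_left hσ,
            (Int.units_eq_one_or _).resolve_left hpodd]
          rfl
        have h4 : τ * p.2⁻¹ ∈ alternatingGroup β := by
          rw [Equiv.Perm.mem_alternatingGroup] at hσ hp2 ⊢
          rw [(Int.units_eq_one_or _).resolve_left hσ] at hx
          rw [map_mul, map_inv, (Int.units_eq_one_or _).resolve_left hp2]
          rcases Int.units_eq_one_or (Equiv.Perm.sign τ) with e | e <;> simp_all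
        have h5 := mul_mem (hprod _ _ (h1 _ h3) (h2 _ h4)) hp
        rwa [Prod.mul_def, inv_mul_cancel_right, inv_mul_cancel_right] at h5

variable {G : Type*} [Group G] [Finite G] {Ω : Type*} [MulAction G Ω] [Finite Ω] {a b : Ω} {d : ℕ}

theorem altAct_of_index {H : Subgroup G} {c : Ω} (hi : (act H c).range.index ≤ 2) : AltAct H c :=
  Equiv.Perm.alternatingGroup_le_of_index_le_two hi

/-- The structure of the point stabilizer. -/
theorem altSuborbit_structure (h : Adj (G := G) a b d) (h6 : 6 ≤ d)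
    (hl : AltAct (stabilizer G a) b)
    (hX : coreIn (stabilizer G a) (stabilizer G a ⊓ stabilizer G b) ≠ ⊥) :
    ((act (stabilizer G a) b).range.index = 2 ∧
      Nonempty (stabilizer G a ≃* alternatingGroup (Fin d) × alternatingGroup (Fin (d - 1)))) ∨
    ((act (stabilizer G a) b).range = ⊤ ∧
      (Nonempty (stabilizer G a ≃* Equiv.Perm (Fin d) × Equiv.Perm (Fin (d - 1))) ∨
       Nonempty (stabilizer G a ≃* Equiv.Perm (Fin d) × alternatingGroup (Fin (d - 1))) ∨
       Nonempty (stabilizer G a ≃* ((Equiv.Perm.sign.comp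
          (MonoidHom.fst (Equiv.Perm (Fin d)) (Equiv.Perm (Fin (d - 1))))) *
         (Equiv.Perm.sign.comp
          (MonoidHom.snd (Equiv.Perm (Fin d)) (Equiv.Perm (Fin (d - 1)))))).ker))) := by
  obtain ⟨Φ, hinj, hfst, h1, h2, heven⟩ :=
    exists_embedding h h6 hl (altAct_right h h6 hl) hX
  let e1 : orbit (stabilizer G a) b ≃ Fin d :=
    Finite.equivFinOfCardEq h.left
  let e2 : {y : orbit (stabilizer G b) a // y ≠ base (stabilizer G b) a} ≃ Fin (d - 1) :=
    Finite.equivFinOfCardEq (by rw [card_ne_subtype, h.right])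
  let E := e1.permCongrHom.prodCongr e2.permCongrHom
  let Ψ : stabilizer G a →* Equiv.Perm (Fin d) × Equiv.Perm (Fin (d - 1)) :=
    E.toMonoidHom.comp Φ
  have hΨ : Function.Injective Ψ := E.injective.comp hinj
  let eA := MonoidHom.ofInjective hΨ
  have hs1 : ∀ σ, Equiv.Perm.sign (e1.permCongrHom σ) = Equiv.Perm.sign σ :=
    fun σ => Equiv.Perm.sign_permCongr e1 σ
  have hs2 : ∀ σ, Equiv.Perm.sign (e2.permCongrHom σ) = Equiv.Perm.sign σ :=
    fun σ => Equiv.Perm.sign_permCongr e2 σ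
  have hH1 : ∀ σ ∈ alternatingGroup (Fin d), (σ, (1 : Equiv.Perm (Fin (d - 1)))) ∈ Ψ.range := by
    intro σ hσ
    obtain ⟨τ, rfl⟩ := e1.permCongrHom.surjective σ
    rw [Equiv.Perm.mem_alternatingGroup, hs1] at hσ
    obtain ⟨x, hx⟩ := h1 τ hσ
    refine ⟨x, ?_⟩
    show E (Φ x) = _
    rw [hx]
    exact Prod.ext rfl (map_one e2.permCongrHom)
  have hH2 : ∀ σ ∈ alternatingGroup (Fin (d - 1)), ((1 : Equiv.Perm (Fin d)), σ) ∈ Ψ.range := by
    intro σ hσ
    obtain ⟨τ, rfl⟩ := e2.permCongrHom.surjective σ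
    rw [Equiv.Perm.mem_alternatingGroup, hs2] at hσ
    obtain ⟨x, hx⟩ := h2 τ hσ
    refine ⟨x, ?_⟩
    show E (Φ x) = _
    rw [hx]
    exact Prod.ext (map_one e1.permCongrHom) rfl
  by_cases hev : ∀ x, act (stabilizer G a) b x ∈ alternatingGroup (orbit (stabilizer G a) b)
  · left
    constructor
    · haveI : Nontrivial (orbit (stabilizer G a) b) := by
        rw [← Finite.one_lt_card_iff_nontrivial, h.left]; omega
      rw [le_antisymm (fun g hg => by obtain ⟨y, rfl⟩ := hg; exact hev y) hl]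
      exact alternatingGroup.index_eq_two
    · refine ⟨eA.trans ((MulEquiv.subgroupCongr ?_).trans
        (Subgroup.prodEquiv (alternatingGroup (Fin d)) (alternatingGroup (Fin (d - 1)))))⟩
      refine le_antisymm ?_ fun x hx => ?_
      · rintro _ ⟨x, rfl⟩
        refine Subgroup.mem_prod.2 ⟨?_, ?_⟩
        · show e1.permCongrHom (Φ x).1 ∈ _
          rw [Equiv.Perm.mem_alternatingGroup, hs1, hfst]
          exact hev x
        · show e2.permCongrHom (Φ x).2 ∈ _
          rw [Equiv.Perm.mem_alternatingGroup, hs2]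
          exact heven hev x
      · have := mul_mem (hH1 _ (Subgroup.mem_prod.1 hx).1) (hH2 _ (Subgroup.mem_prod.1 hx).2)
        simpa using this
  · right
    obtain ⟨x, hx⟩ := not_forall.1 hev
    refine ⟨sign_eq_one_or_mul hl ⟨x, rfl⟩ hx, ?_⟩
    have hodd : ∃ p ∈ Ψ.range, p.1 ∉ alternatingGroup (Fin d) := by
      refine ⟨Ψ x, ⟨x, rfl⟩, ?_⟩
      show e1.permCongrHom (Φ x).1 ∉ _
      rw [Equiv.Perm.mem_alternatingGroup, hs1, hfst]
      exact hx
    rcases classify_overgroup hH1 hH2 hodd with hH | hH | hH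
    · exact Or.inl ⟨eA.trans ((MulEquiv.subgroupCongr hH).trans Subgroup.topEquiv)⟩
    · exact Or.inr (Or.inl ⟨eA.trans ((MulEquiv.subgroupCongr hH).trans
        ((Subgroup.prodEquiv ⊤ (alternatingGroup (Fin (d - 1)))).trans
          (Subgroup.topEquiv.prodCongr (MulEquiv.refl _))))⟩)
    · exact Or.inr (Or.inr ⟨eA.trans (MulEquiv.subgroupCongr hH)⟩)

end CfsgLib.ThompsonWielandt
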