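import Cfsg.Agent.ThompsonWielandt.Suborbit

/-!
# Adjacent stabilizers whose two-point stabilizer induces a Fitting-free group
-/

set_option autoImplicit false

namespace CfsgLib.ThompsonWielandt

open Subgroup CfsgLib.CharP MulAction

variable {G : Type*} [Group G] [Finite G] {A B : Subgroup G}

/-- If `O_q(A ⊓ B)` lies in the first core of `A` then it is trivial. -/
theorem Pair.opIn_inf_eq_bot (h : Pair A B) {q : ℕ} [Fact q.Prime]
    (hle : opIn q (A ⊓ B) ≤ coreIn A (A ⊓ B)) : opIn q (A ⊓ B) = ⊥ := by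
  set S0 := opIn q (A ⊓ B)
  set X := coreIn A (A ⊓ B)
  set R := opIn q B
  by_contra hS
  have hXn : A ≤ normalizer (X : Set G) := le_normalizer_coreIn _ _
  have hS0A : S0 ≤ A := (opIn_le _).trans inf_le_left
  have heq : S0 = opIn q X := le_antisymm
    (le_opIn hle (isPGroup_opIn _) ((coreIn_le A (A ⊓ B)).trans (le_normalizer_opIn _)))
    (opIn_mono (coreIn_le _ _) (inf_le_left.trans hXn))
  have hnS : A ≤ normalizer (S0 : Set G) := by
    rw [heq]; exact le_normalizer_opIn_of_le_normalizer hXn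
  have hN : normalizer (S0 : Set G) = A := h.normalizer_eq hS0A hS hnS
  have hSR : S0 ≤ normalizer (R : Set G) :=
    ((opIn_le _).trans inf_le_right).trans (le_normalizer_opIn B)
  have hT : IsPGroup q (S0 ⊔ R : Subgroup G) :=
    (isPGroup_opIn (A ⊓ B)).to_sup_of_normal_right' (isPGroup_opIn B) hSR
  have hRA : R ⊓ A ≤ S0 := by
    refine le_opIn (le_inf inf_le_right (inf_le_left.trans (opIn_le B)))
      ((isPGroup_opIn (p := q) B).to_le inf_le_left) ?_
    exact (le_inf (inf_le_right.trans (le_normalizer_opIn B))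
      (inf_le_left.trans le_normalizer)).trans inf_normalizer_le_normalizer_inf
  have hRS : R ≤ S0 := by
    rcases eq_or_lt_of_le (le_sup_left : S0 ≤ S0 ⊔ R) with he | hlt
    · rw [he]; exact le_sup_right
    obtain ⟨x, hx, hxS, hxN⟩ := exists_mem_normalizer_notMem hT hlt
    rw [hN] at hxN
    obtain ⟨s, hs, r, hr, rfl⟩ := (Solvable.mem_sup_of_le_normalizer hSR).1 hx
    have : r ∈ A := by simpa using mul_mem (inv_mem (hS0A hs)) hxN
    exact absurd (mul_mem hs (hRA ⟨hr, this⟩)) hxS
  have hcard : Nat.card S0 ≤ Nat.card R := by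
    refine (card_le_of_le (le_opIn hS0A (isPGroup_opIn _) hnS)).trans (le_of_eq ?_)
    obtain ⟨g, hg⟩ := h.conj
    have hR : R = (opIn q A).map (MulAut.conj g).toMonoidHom := by rw [opIn_map, hg]
    rw [hR, card_map_of_injective (f := (MulAut.conj g).toMonoidHom) (MulAut.conj g).injective]
  have hRS' : R = S0 := Subgroup.eq_of_le_of_card_ge hRS hcard
  exact hS (h.eq_bot_of_both hS0A ((opIn_le _).trans inf_le_right) hnS
    (hRS' ▸ le_normalizer_opIn B))

variable {Ω : Type*} [MulAction G Ω] [Finite Ω] {a b : Ω} {d : ℕ}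

/-- The hypothesis of Fitting-freeness of the group induced by the two-point stabilizer. -/
def InducedFittingFree (G : Type*) [Group G] {Ω : Type*} [MulAction G Ω] (a b : Ω) : Prop :=
  Cfsg.fittingSubgroup ↥(((stabilizer G b).subgroupOf (stabilizer G a)).map
    (toPermHom (stabilizer G a) (orbit (stabilizer G a) b))) = ⊥

theorem Adj.opIn_inf_eq_bot (h : Adj (G := G) a b d) (hF : InducedFittingFree G a b) {q : ℕ}
    [Fact q.Prime] : opIn q (stabilizer G a ⊓ stabilizer G b) = ⊥ := by
  set A := stabilizer G a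
  set B := stabilizer G b
  refine h.pair.opIn_inf_eq_bot ?_
  set φ := (toPermHom A (orbit A b)).subgroupMap (B.subgroupOf A)
  set S0 := opIn q (A ⊓ B)
  intro x hx
  have hxC := Subgroup.mem_inf.1 (opIn_le (A ⊓ B) hx)
  set S1 : Subgroup (B.subgroupOf A) := (S0.subgroupOf A).subgroupOf (B.subgroupOf A)
  haveI : S1.Normal := by
    refine ⟨fun s hs g => ?_⟩
    rw [mem_subgroupOf, mem_subgroupOf] at hs ⊢
    exact (mem_normalizer_iff.1
      (le_normalizer_opIn (A ⊓ B) (Subgroup.mem_inf.2 ⟨(g : A).2, g.2⟩)) _).1 hs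
  have hp : IsPGroup q S1 := by
    refine ((isPGroup_opIn (p := q) (A ⊓ B)).comap_of_injective A.subtype
      A.subtype_injective).comap_of_injective (B.subgroupOf A).subtype
      (B.subgroupOf A).subtype_injective
  have hnil : Group.IsNilpotent (S1.map φ) := (hp.map φ).isNilpotent
  have hle := Comp.le_fitting ((inferInstance : S1.Normal).map φ
    ((toPermHom A (orbit A b)).subgroupMap_surjective _)) hnil
  unfold InducedFittingFree at hF
  rw [hF, le_bot_iff] at hle
  have h1 : φ ⟨⟨x, hxC.1⟩, hxC.2⟩ = 1 := by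
    rw [← Subgroup.mem_bot, ← hle]
    exact ⟨_, hx, rfl⟩
  have h2 : (⟨x, hxC.1⟩ : A) ∈ (toPermHom A (orbit A b)).ker := congrArg Subtype.val h1
  rwa [ker_toPerm_orbit] at h2

theorem Adj.fitting_inf_eq_bot (h : Adj (G := G) a b d) (hF : InducedFittingFree G a b) :
    Cfsg.fittingSubgroup ↥(stabilizer G a ⊓ stabilizer G b) = ⊥ := by
  rw [Comp.fitting_eq_iSup_pCore, iSup_eq_bot]
  intro q
  haveI := Fact.mk (Nat.prime_of_mem_primeFactors q.2)
  have := h.opIn_inf_eq_bot hF (q := (q : ℕ))
  rwa [opIn, Subgroup.map_eq_bot_iff_of_injective _ (Subgroup.subtype_injective _)] at this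

theorem Adj.second_eq_bot_or (h : Adj (G := G) a b d) (hF : InducedFittingFree G a b) :
    second (stabilizer G a) (stabilizer G b) = ⊥ ∨
      second (stabilizer G b) (stabilizer G a) = ⊥ := by
  by_contra! hc
  obtain ⟨p, hp, hpA, -⟩ := h.pair.main hc.1 hc.2
  haveI := Fact.mk hp
  refine hc.1 (eq_bot_iff.2 (le_trans (le_opIn ?_ hpA ?_) (h.opIn_inf_eq_bot hF (q := p)).le))
  · exact (second_le_left _ _).trans (coreIn_le _ _)
  · exact inf_le_left.trans (le_normalizer_coreIn _ _)

end CfsgLib.ThompsonWielandt
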