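import Cfsg.Agent.ThompsonWielandt.Main

/-!
# Generalised Fitting subgroups in the Thompson–Wielandt setting
-/

set_option autoImplicit false

namespace CfsgLib.ThompsonWielandt

open Subgroup CfsgLib.CharP

variable {G : Type*} [Group G] [Finite G]

theorem gf_eq_pCore {H : Subgroup G} {p : ℕ} (hp : p.Prime) (hE : layerIn H = ⊥)
    (hq : ∀ q : ℕ, q.Prime → q ≠ p → opIn q H = ⊥) :
    Cfsg.generalizedFittingSubgroup H = Cfsg.pCore p H := by
  haveI := Fact.mk hp
  have hl : Cfsg.layer H = ⊥ :=
    (Subgroup.map_eq_bot_iff_of_injective _ H.subtype_injective).1 hE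
  rw [Cfsg.generalizedFittingSubgroup, hl, bot_sup_eq]
  refine le_antisymm ?_ (Comp.pCore_le_fitting p)
  rw [Comp.fitting_eq_iSup_pCore]
  refine iSup_le fun q => ?_
  by_cases h : (q : ℕ) = p
  · rw [h]
  · have := hq q (Nat.prime_of_mem_primeFactors q.2) h
    rw [opIn, Subgroup.map_eq_bot_iff_of_injective _ H.subtype_injective] at this
    rw [this]
    exact bot_le

theorem layerIn_mono_normal {N H : Subgroup G} (h : N ≤ H) (hn : H ≤ normalizer (N : Set G)) :
    layerIn N ≤ layerIn H :=
  layerIn_le_of_forall fun _ hL => (hL.trans (SubnIn.of_normalized h hn)).le_layerIn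

variable {A B : Subgroup G}

/-- The two second cores generate a `p`-group. -/
theorem Pair.sup_isPGroup (h : Pair A B) {p : ℕ} [Fact p.Prime]
    (hp : IsPGroup p (second A B)) (hp' : IsPGroup p (second B A)) :
    IsPGroup p (second A B ⊔ second B A : Subgroup G) := by
  refine (isPGroup_opIn A).to_le (sup_le (le_opIn (coreIn_le_left _ _) hp
    (le_normalizer_coreIn _ _)) ?_)
  have hX : A ≤ normalizer (coreIn A (A ⊓ B) : Set G) := le_normalizer_coreIn _ _
  have hle : second B A ≤ coreIn A (A ⊓ B) := by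
    rw [second_swap]
    exact (coreIn_le _ _).trans inf_le_left
  refine le_trans (le_opIn hle hp' ?_) (opIn_mono (coreIn_le_left _ _) hX)
  exact ((coreIn_le _ _).trans inf_le_right).trans (le_normalizer_coreIn _ _)

theorem Pair.gf_core (h : Pair A B) {p : ℕ} (hp : p.Prime) (hE : layerIn A = ⊥)
    (hq : ∀ q : ℕ, q.Prime → q ≠ p → opIn q A = ⊥) :
    Cfsg.generalizedFittingSubgroup (coreIn A (A ⊓ B)) = Cfsg.pCore p (coreIn A (A ⊓ B)) := by
  have hX : A ≤ normalizer (coreIn A (A ⊓ B) : Set G) := le_normalizer_coreIn _ _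
  refine gf_eq_pCore hp ?_ fun q hq' hne => ?_
  · rw [eq_bot_iff, ← hE]
    exact layerIn_mono_normal (coreIn_le_left _ _) hX
  · haveI := Fact.mk hq'
    rw [eq_bot_iff, ← hq q hq' hne]
    exact opIn_mono (coreIn_le_left _ _) hX

end CfsgLib.ThompsonWielandt
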