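import Cfsg.Agent.ThompsonWielandt.SubnIn
import Cfsg.Agent.Comp.Fitting

/-!
# The Thompson–Wielandt theorem for two conjugate maximal subgroups
-/

set_option autoImplicit false

namespace CfsgLib.ThompsonWielandt

open Subgroup CfsgLib.CharP

variable {G : Type*} [Group G]

/-- The core of `K` in `A`. -/
def coreIn (A K : Subgroup G) : Subgroup G := ((K.subgroupOf A).normalCore).map A.subtype

theorem coreIn_le_left (A K : Subgroup G) : coreIn A K ≤ A := map_subtype_le _

theorem coreIn_le (A K : Subgroup G) : coreIn A K ≤ K := by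
  rintro x ⟨y, hy, rfl⟩
  exact mem_subgroupOf.1 (normalCore_le _ hy)

theorem le_normalizer_coreIn (A K : Subgroup G) : A ≤ normalizer (coreIn A K : Set G) :=
  Comp.normal_map_subtype_iff.1 inferInstance

theorem le_coreIn {A K N : Subgroup G} (hA : N ≤ A) (hK : N ≤ K)
    (hn : A ≤ normalizer (N : Set G)) : N ≤ coreIn A K := by
  rw [← map_subgroupOf_eq_of_le hA]
  haveI : (N.subgroupOf A).Normal := normal_subgroupOf_of_le_normalizer hn
  exact map_mono (normal_le_normalCore.2 (comap_mono hK))

/-- `B₂`-type subgroup: the core in `A` of the intersection of the two first cores. -/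
def second (A B : Subgroup G) : Subgroup G :=
  coreIn A (coreIn A (A ⊓ B) ⊓ coreIn B (A ⊓ B))

theorem second_le_left (A B : Subgroup G) : second A B ≤ coreIn A (A ⊓ B) :=
  (coreIn_le _ _).trans inf_le_left

theorem second_le_right (A B : Subgroup G) : second A B ≤ coreIn B (A ⊓ B) :=
  (coreIn_le _ _).trans inf_le_right

theorem second_swap (A B : Subgroup G) :
    second B A = coreIn B (coreIn A (A ⊓ B) ⊓ coreIn B (A ⊓ B)) := by
  rw [second, inf_comm B A, inf_comm (coreIn B _)]

theorem subnIn_second [Finite G] (A B : Subgroup G) : SubnIn (second A B) B := by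
  refine SubnIn.trans (K := coreIn B (A ⊓ B)) (SubnIn.of_normalized (second_le_right A B) ?_)
    (SubnIn.of_normalized (coreIn_le_left _ _) (le_normalizer_coreIn _ _))
  exact ((coreIn_le _ _).trans inf_le_left).trans (le_normalizer_coreIn _ _)

/-- Two distinct conjugate maximal subgroups with trivial core. -/
structure Pair (A B : Subgroup G) : Prop where
  max : IsCoatom A
  conj : ∃ g : G, A.map (MulAut.conj g).toMonoidHom = B
  ne : A ≠ B
  core : A.normalCore = ⊥

variable {A B : Subgroup G}

theorem Pair.symm (h : Pair A B) : Pair B A := by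
  obtain ⟨g, hg⟩ := h.conj
  refine ⟨?_, ⟨g⁻¹, ?_⟩, h.ne.symm, ?_⟩
  · rw [← hg]
    exact (OrderIso.isCoatom_iff (MulAut.conj g).mapSubgroup A).2 h.max
  · rw [← hg, Subgroup.map_map]
    convert A.map_id using 2
    ext x; simp [mul_assoc]
  · rw [eq_bot_iff, ← h.core]
    refine normal_le_normalCore.2 ?_
    have h1 : B.normalCore ≤ B := normalCore_le B
    intro x hx
    have hn : B.normalCore.Normal := inferInstance
    have h2 : g * x * g⁻¹ ∈ B := h1 (hn.conj_mem x hx g)
    rw [← hg] at h2
    obtain ⟨a, ha, e⟩ := h2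
    simp at e
    rwa [← e]

theorem Pair.normalizer_eq (h : Pair A B) {N : Subgroup G} (hle : N ≤ A) (hne : N ≠ ⊥)
    (hn : A ≤ normalizer (N : Set G)) : normalizer (N : Set G) = A := by
  refine (h.max.le_iff.1 hn).resolve_left fun htop => hne ?_
  haveI : N.Normal := normalizer_eq_top_iff.1 htop
  exact eq_bot_iff.2 ((normal_le_normalCore.2 hle).trans h.core.le)

theorem Pair.eq_bot_of_both (h : Pair A B) {N : Subgroup G} (hle : N ≤ A) (hle' : N ≤ B)
    (hn : A ≤ normalizer (N : Set G)) (hn' : B ≤ normalizer (N : Set G)) : N = ⊥ := by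
  by_contra hne
  exact h.ne ((h.normalizer_eq hle hne hn).symm.trans (h.symm.normalizer_eq hle' hne hn'))

theorem map_conj_inv_map (H : Subgroup G) (a b : G) :
    (H.map (MulAut.conj a).toMonoidHom).map (MulAut.conj b).toMonoidHom
      = H.map (MulAut.conj (b * a)).toMonoidHom := by
  rw [Subgroup.map_map, map_mul]
  rfl

theorem map_conj_eq_of_mem {H : Subgroup G} {b : G} (hb : b ∈ normalizer (H : Set G)) :
    H.map (MulAut.conj b).toMonoidHom = H :=
  mem_normalizer_iff_map_conj_eq.1 hb

variable [Finite G]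

/-- If the second core of `A` is not a `p`-group then `O_p(A) = 1`. -/
theorem Pair.opIn_eq_bot (h : Pair A B) {p : ℕ} [Fact p.Prime]
    (hW : ¬ IsPGroup p (second A B)) : opIn p A = ⊥ := by
  set W := second A B
  set Y := coreIn B (A ⊓ B)
  have hWA : W ≤ A := coreIn_le_left _ _
  have hNW : normalizer (zr p W : Set G) = A :=
    h.normalizer_eq ((zr_le p W).trans hWA) (fun h0 => hW (isPGroup_of_zr_eq_bot h0))
      (le_normalizer_zr (le_normalizer_coreIn _ _))
  have hYB : ∀ b ∈ B, Y.map (MulAut.conj b).toMonoidHom = Y := fun b hb =>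
    map_conj_eq_of_mem (le_normalizer_coreIn _ _ hb)
  let K : G → Subgroup G := fun b => A.map (MulAut.conj b).toMonoidHom ⊓ B
  have hYK : ∀ b ∈ B, Y ≤ K b := fun b hb =>
    le_inf (by rw [← hYB b hb]; exact map_mono ((coreIn_le _ _).trans inf_le_left))
      ((coreIn_le _ _).trans inf_le_right)
  have hsub : ∀ b ∈ B, SubnIn W (K b) := fun b hb =>
    SubnIn.trans (SubnIn.of_normalized (second_le_right A B)
      (((coreIn_le _ _).trans inf_le_left).trans (le_normalizer_coreIn _ _)))
      (SubnIn.of_normalized (hYK b hb) (inf_le_right.trans (le_normalizer_coreIn _ _)))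
  have hPA : ∀ b ∈ B, opIn p (K b) ≤ A := fun b hb => by
    rw [← hNW]; exact opIn_le_normalizer_zr (hsub b hb)
  have hK : ∀ b ∈ B, ∀ c ∈ B, (K c).map (MulAut.conj b).toMonoidHom = K (b * c) := by
    intro b hb c _
    simp only [K]
    rw [Subgroup.map_inf _ _ _ (MulAut.conj b).injective, map_conj_inv_map,
      map_conj_eq_of_mem (le_normalizer hb)]
  have hPK : ∀ b ∈ B, ∀ c ∈ B, opIn p (K b) ≤ K c := by
    intro b hb c hc
    refine le_inf ?_ ((opIn_le _).trans inf_le_right)
    have e : b = c * (c⁻¹ * b) := by group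
    rw [e, ← hK c hc _ (mul_mem (inv_mem hc) hb), ← opIn_map]
    exact map_mono (hPA _ (mul_mem (inv_mem hc) hb))
  let J : Subgroup G := ⨆ b : B, opIn p (K b)
  have hJP : IsPGroup p J := by
    refine IsPGroup.to_le (isPGroup_opIn J) (iSup_le fun b => ?_)
    refine le_opIn (le_iSup (fun b : B => opIn p (K b)) b) (isPGroup_opIn _) (iSup_le fun c => ?_)
    exact (hPK c c.2 b b.2).trans (le_normalizer_opIn _)
  have hJB : B ≤ normalizer (J : Set G) := by
    intro x hx
    refine mem_normalizer_iff_map_conj_eq.2 ?_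
    show J.map (MulAut.conj x).toMonoidHom = J
    simp only [J, Subgroup.map_iSup]
    simp only [opIn_map]
    apply le_antisymm
    · refine iSup_le fun b => ?_
      rw [hK x hx b b.2]
      exact le_iSup (fun b : B => opIn p (K b)) ⟨x * b, mul_mem hx b.2⟩
    · refine iSup_le fun b => ?_
      refine le_trans (le_of_eq ?_) (le_iSup (fun c : B =>
        opIn p ((K c).map (MulAut.conj x).toMonoidHom)) ⟨x⁻¹ * b, mul_mem (inv_mem hx) b.2⟩)
      rw [hK x hx _ (mul_mem (inv_mem hx) b.2)]
      congr 2; group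
  set R := opIn p B
  have hJR : J ≤ R :=
    le_opIn (iSup_le fun b => (opIn_le _).trans inf_le_right) hJP hJB
  have hK1 : K 1 = A ⊓ B := by
    simp only [K, map_one]
    exact congrArg (· ⊓ B) A.map_id
  have hPR : opIn p (A ⊓ B) ≤ R := by
    rw [← hK1]; exact (le_iSup (fun b : B => opIn p (K b)) 1).trans hJR
  have hRA : R ≤ A := by
    rw [← hNW]; exact opIn_le_normalizer_zr (subnIn_second A B)
  obtain ⟨g, hg⟩ := h.conj
  have hR : R = (opIn p A).map (MulAut.conj g).toMonoidHom := by rw [opIn_map, hg]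
  set S := opIn p A
  by_contra hS
  have hR1 : R ≠ ⊥ := fun h0 => hS (by rwa [hR, Subgroup.map_eq_bot_iff_of_injective _
    (MulAut.conj g).injective] at h0)
  have hNR : normalizer (R : Set G) = B :=
    h.symm.normalizer_eq (opIn_le B) hR1 (le_normalizer_opIn B)
  have hRS : R ≤ normalizer (S : Set G) := hRA.trans (le_normalizer_opIn A)
  have hT : IsPGroup p (R ⊔ S : Subgroup G) :=
    (isPGroup_opIn B).to_sup_of_normal_right' (isPGroup_opIn A) hRS
  have hSB : S ⊓ B ≤ R := by
    refine le_trans (le_opIn (le_inf (inf_le_left.trans (opIn_le A)) inf_le_right)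
      ((isPGroup_opIn (p := p) A).to_le inf_le_left) ?_) hPR
    exact (le_inf (inf_le_left.trans (le_normalizer_opIn A)) (inf_le_right.trans le_normalizer)).trans
      inf_normalizer_le_normalizer_inf
  have hSR : S ≤ R := by
    rcases eq_or_lt_of_le (le_sup_left : R ≤ R ⊔ S) with he | hlt
    · rw [he]; exact le_sup_right
    obtain ⟨x, hx, hxR, hxN⟩ := exists_mem_normalizer_notMem hT hlt
    rw [hNR] at hxN
    obtain ⟨r, hr, s, hs, rfl⟩ := (Solvable.mem_sup_of_le_normalizer hRS).1 hx
    have : s ∈ B := by simpa using mul_mem (inv_mem (opIn_le B hr)) hxN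
    exact absurd (mul_mem hr (hSB ⟨hs, this⟩)) hxR
  have heq : S = R := Subgroup.eq_of_le_of_card_ge hSR (by
    rw [hR, card_map_of_injective (f := (MulAut.conj g).toMonoidHom) (MulAut.conj g).injective])
  exact hS (h.eq_bot_of_both (opIn_le A) (heq ▸ opIn_le B) (le_normalizer_opIn A)
    (heq ▸ le_normalizer_opIn B))

/-- A component is generated by its elements of order prime to `p`. -/
theorem CompIn.zr_eq {L H : Subgroup G} (hL : CompIn L H) (p : ℕ) [Fact p.Prime] : zr p L = L := by
  refine le_antisymm (zr_le p L) ?_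
  haveI : ((zr p L).subgroupOf L).Normal :=
    normal_subgroupOf_of_le_normalizer (le_normalizer_zr le_normalizer)
  rcases Comp.quasisimple_normal (compIn_iff.1 hL).2 (H := (zr p L).subgroupOf L) inferInstance
    with h | h
  · exact subgroupOf_eq_top.1 h
  · exfalso
    have hp : IsPGroup p (L ⧸ (zr p L).subgroupOf L) := by
      intro q
      obtain ⟨x, rfl⟩ := QuotientGroup.mk'_surjective _ q
      refine ⟨(orderOf x).factorization p, ?_⟩
      rw [← map_pow]
      refine (QuotientGroup.eq_one_iff _).2 (mem_subgroupOf.2 (subset_closure ⟨SetLike.coe_mem _, ?_⟩))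
      rw [Subgroup.orderOf_coe, orderOf_pow_of_dvd (pow_ne_zero _ (Fact.out : p.Prime).ne_zero)
        (Nat.ordProj_dvd _ _)]
      exact (Nat.coprime_ordCompl Fact.out (orderOf_pos x).ne').symm
    haveI := hp.isNilpotent
    haveI : Group.IsNilpotent L := Subgroup.isNilpotent_of_ker_le_center
      (QuotientGroup.mk' ((zr p L).subgroupOf L)) (by rwa [QuotientGroup.ker_mk'])
    exact Comp.quasisimple_not_solvable (compIn_iff.1 hL).2 inferInstance

theorem centralizer_le_of_forall (A : Subgroup G) {K : Subgroup G} (hKA : K ≤ A)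
    (hE : K ≤ centralizer (layerIn A : Set G))
    (hF : ∀ q : ℕ, q.Prime → K ≤ centralizer (opIn q A : Set G)) :
    K ≤ centralizer (K : Set G) := by
  set F := (Cfsg.generalizedFittingSubgroup A).map A.subtype with hFdef
  have hKF : K ≤ centralizer (F : Set G) := by
    rw [Subgroup.le_centralizer_iff, hFdef, Cfsg.generalizedFittingSubgroup,
      Comp.fitting_eq_iSup_pCore, Subgroup.map_sup, Subgroup.map_iSup]
    refine sup_le (Subgroup.le_centralizer_iff.1 hE) (iSup_le fun q => ?_)
    exact Subgroup.le_centralizer_iff.1 (hF q (Nat.prime_of_mem_primeFactors q.2))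
  have hKF' : K ≤ F := by
    intro x hx
    refine ⟨⟨x, hKA hx⟩, Comp.centralizer_Fstar_le (mem_centralizer_iff.2 fun y hy => ?_), rfl⟩
    exact Subtype.ext (mem_centralizer_iff.1 (hKF hx) y ⟨y, hy, rfl⟩)
  exact hKF.trans (centralizer_le hKF')

theorem layerIn_map (e : G ≃* G) (H : Subgroup G) :
    (layerIn H).map e.toMonoidHom ≤ layerIn (H.map e.toMonoidHom) := by
  rw [map_le_iff_le_comap]
  refine layerIn_le_of_forall fun L hL => ?_
  rw [← map_le_iff_le_comap]
  apply CompIn.le_layerIn
  refine ⟨map_mono hL.1, ?_⟩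
  have := Comp.component_map_equiv (e.subgroupMap H) hL.2
  have e1 : (L.map e.toMonoidHom).subgroupOf (H.map e.toMonoidHom)
      = (L.subgroupOf H).map (e.subgroupMap H).toMonoidHom := ?_
  · rwa [e1]
  ext y
  simp only [mem_subgroupOf, Subgroup.mem_map, MulEquiv.coe_toMonoidHom]
  constructor
  · rintro ⟨x, hx, e1⟩
    exact ⟨⟨x, hL.1 hx⟩, hx, Subtype.ext e1⟩
  · rintro ⟨x, hx, rfl⟩
    exact ⟨x, hx, rfl⟩

/-- Components of `A` are components of `B`. -/
theorem Pair.comp_le_layer (h : Pair A B) (hW : second A B ≠ ⊥) (hW' : second B A ≠ ⊥)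
    (hF : ∀ q : ℕ, q.Prime → opIn q B = ⊥ ∨ IsPGroup q (second A B))
    {K : Subgroup G} (hK : CompIn K A) : K ≤ layerIn B := by
  have hNA : normalizer (second A B : Set G) = A :=
    h.normalizer_eq (coreIn_le_left _ _) hW (le_normalizer_coreIn _ _)
  have hNB : normalizer (second B A : Set G) = B :=
    h.symm.normalizer_eq (coreIn_le_left _ _) hW' (le_normalizer_coreIn _ _)
  have hKB : K ≤ B := hNB ▸ hK.normalizes (subnIn_second B A)
  have hKC : CompIn K (A ⊓ B) := hK.restrict (le_inf hK.1 hKB) inf_le_left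
  by_contra hcon
  apply hK.not_abelian
  apply centralizer_le_of_forall B hKB
  · rw [Subgroup.le_centralizer_iff]
    refine layerIn_le_of_forall fun L hL => ?_
    have hLA : L ≤ A := hNA ▸ hL.normalizes (subnIn_second A B)
    have hLC : CompIn L (A ⊓ B) := hL.restrict (le_inf hLA hL.1) inf_le_right
    rcases hKC.le_or_centralizes hLC.subn with h1 | h1
    · exact absurd (h1.trans hL.le_layerIn) hcon
    · exact Subgroup.le_centralizer_iff.1 h1
  · intro q hq
    haveI := Fact.mk hq
    rcases hF q hq with h0 | hp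
    · rw [h0]
      intro x _
      simp [mem_centralizer_iff]
    set R := opIn q B
    have hT : R ⊓ A ≤ opIn q (A ⊓ B) := by
      refine le_opIn (le_inf inf_le_right (inf_le_left.trans (opIn_le B)))
        ((isPGroup_opIn (p := q) B).to_le inf_le_left) ?_
      exact (le_inf (inf_le_right.trans (le_normalizer_opIn B))
        (inf_le_left.trans le_normalizer)).trans inf_normalizer_le_normalizer_inf
    have hWR : second A B ≤ R ⊓ A := by
      refine le_inf ?_ (coreIn_le_left _ _)
      refine le_trans (le_opIn (second_le_right A B) hp ?_)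
        (opIn_mono (coreIn_le_left _ _) (le_normalizer_coreIn _ _))
      exact ((coreIn_le _ _).trans inf_le_left).trans (le_normalizer_coreIn _ _)
    have hKT : K ≤ centralizer ((R ⊓ A : Subgroup G) : Set G) :=
      hKC.centralizes_opIn.trans (centralizer_le hT)
    rw [← hK.zr_eq q, zr, closure_le]
    rintro y ⟨hy, hyq⟩
    have key : R ≤ centralizer {y} := by
      refine centralizes_of_centralizes_fixed ((isPGroup_opIn B).to_le inf_le_left)
        (isPGroup_opIn B) (inf_le_left.trans le_normalizer) ?_ (hKT hy) hyq ?_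
      · exact le_normalizer_opIn B (hKB hy)
      · rintro r ⟨hrR, hrC⟩
        have hrA : r ∈ A := by
          rw [← hNA]
          exact centralizer_le_normalizer _ (centralizer_le (s := (second A B : Set G)) hWR hrC)
        rw [mem_centralizer_singleton_iff]
        exact mem_centralizer_iff.1 (hKT hy) r ⟨hrR, hrA⟩
    rw [SetLike.mem_coe, mem_centralizer_iff]
    intro r hr
    exact mem_centralizer_singleton_iff.1 (key hr)

/-- The layer of `A` is trivial. -/
theorem Pair.layerIn_eq_bot (h : Pair A B) (hW : second A B ≠ ⊥) (hW' : second B A ≠ ⊥)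
    (hF : ∀ q : ℕ, q.Prime → opIn q B = ⊥ ∨ IsPGroup q (second A B)) : layerIn A = ⊥ := by
  have hle : layerIn A ≤ layerIn B :=
    layerIn_le_of_forall fun K hK => h.comp_le_layer hW hW' hF hK
  obtain ⟨g, hg⟩ := h.symm.conj
  have heq : layerIn A = layerIn B := by
    refine Subgroup.eq_of_le_of_card_ge hle ?_
    rw [← card_map_of_injective (K := layerIn B) (f := (MulAut.conj g).toMonoidHom) (MulAut.conj g).injective]
    exact card_le_of_le ((layerIn_map (MulAut.conj g) B).trans (le_of_eq (by rw [hg])))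
  exact h.eq_bot_of_both (layerIn_le A) (heq ▸ layerIn_le B) (le_normalizer_layerIn A)
    (heq ▸ le_normalizer_layerIn B)

theorem Pair.opIn_eq_bot' (h : Pair A B) {p : ℕ} [Fact p.Prime]
    (hW : ¬ IsPGroup p (second A B)) : opIn p B = ⊥ := by
  obtain ⟨g, hg⟩ := h.conj
  rw [← hg, ← opIn_map, h.opIn_eq_bot hW, Subgroup.map_bot]

theorem prime_eq_of_isPGroup {W : Subgroup G} (hW : W ≠ ⊥) {p q : ℕ} [Fact p.Prime] [Fact q.Prime]
    (hp : IsPGroup p W) (hq : IsPGroup q W) : p = q := by
  by_contra hne
  exact hW (disjoint_self.1 (hp.disjoint_of_ne p q hne W W hq))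

/-- The Thompson–Wielandt theorem. -/
theorem Pair.main (h : Pair A B) (hW : second A B ≠ ⊥) (hW' : second B A ≠ ⊥) :
    ∃ p : ℕ, p.Prime ∧ IsPGroup p (second A B) ∧ IsPGroup p (second B A) ∧
      layerIn A = ⊥ ∧ layerIn B = ⊥ ∧
      (∀ q : ℕ, q.Prime → q ≠ p → opIn q A = ⊥ ∧ opIn q B = ⊥) := by
  have hF : ∀ q : ℕ, q.Prime → opIn q B = ⊥ ∨ IsPGroup q (second A B) := fun q hq => by
    haveI := Fact.mk hq
    by_cases hp : IsPGroup q (second A B)
    · exact Or.inr hp
    · exact Or.inl (h.opIn_eq_bot' hp)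
  have hE := h.layerIn_eq_bot hW hW' hF
  have hEB : layerIn B = ⊥ := by
    obtain ⟨g, hg⟩ := h.symm.conj
    have := (layerIn_map (MulAut.conj g) B).trans (le_of_eq (by rw [hg, hE]))
    rwa [le_bot_iff, Subgroup.map_eq_bot_iff_of_injective _ (MulAut.conj g).injective] at this
  obtain ⟨p, hp, hpW⟩ : ∃ p : ℕ, p.Prime ∧ IsPGroup p (second A B) := by
    by_contra! hno
    apply hW
    have hA0 : A = ⊥ := by
      have := centralizer_le_of_forall A le_rfl (by rw [hE]; intro x _; simp [mem_centralizer_iff])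
        (fun q hq => by
          haveI := Fact.mk hq
          rw [h.opIn_eq_bot (hno q hq)]
          intro x _; simp [mem_centralizer_iff])
      -- `A` is abelian, so it is its own Fitting subgroup
      haveI : Group.IsNilpotent A := by
        haveI : IsMulCommutative A :=
          ⟨⟨fun a b => Subtype.ext (mem_centralizer_iff.1 (this b.2) a a.2)⟩⟩
        open scoped IsMulCommutative in exact inferInstance
      have hfit : Cfsg.fittingSubgroup A = ⊤ :=
        top_le_iff.1 (Comp.le_fitting inferInstance ((Group.isNilpotent_congr Subgroup.topEquiv).2 inferInstance))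
      have := congrArg (Subgroup.map A.subtype) hfit
      rw [Comp.fitting_eq_iSup_pCore, Subgroup.map_iSup, ← MonoidHom.range_eq_map,
        Subgroup.range_subtype] at this
      rw [← this, iSup_eq_bot]
      intro q
      haveI := Fact.mk (Nat.prime_of_mem_primeFactors q.2)
      exact h.opIn_eq_bot (hno q (Nat.prime_of_mem_primeFactors q.2))
    exact eq_bot_iff.2 ((coreIn_le_left _ _).trans hA0.le)
  haveI := Fact.mk hp
  have hq : ∀ q : ℕ, q.Prime → q ≠ p → opIn q A = ⊥ ∧ opIn q B = ⊥ := fun q hq hne => by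
    haveI := Fact.mk hq
    have : ¬ IsPGroup q (second A B) := fun hc => hne (prime_eq_of_isPGroup hW hc hpW)
    exact ⟨h.opIn_eq_bot this, h.opIn_eq_bot' this⟩
  refine ⟨p, hp, hpW, ?_, hE, hEB, hq⟩
  by_contra hno
  -- `O_p(A)` contains the second core of `A`
  have hle : second A B ≤ opIn p A :=
    le_opIn (coreIn_le_left _ _) hpW (le_normalizer_coreIn _ _)
  exact hW (eq_bot_iff.2 (hle.trans (h.symm.opIn_eq_bot' hno).le))

end CfsgLib.ThompsonWielandt
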