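import Cfsg.Agent.ThompsonWielandt.AltSuborbit

/-!
# The structure theorem for an alternating suborbit with nontrivial kernel
-/

set_option autoImplicit false
set_option linter.unusedSectionVars false

noncomputable section

namespace CfsgLib.ThompsonWielandt

open Subgroup CfsgLib.CharP MulAction
open scoped Classical

attribute [local instance] Fintype.ofFinite

variable {G : Type*} [Group G] [Finite G] {Ω : Type*} [MulAction G Ω] [Finite Ω] {a b : Ω} {d : ℕ}

theorem card_range_fixHom {α : Type*} [Fintype α] [DecidableEq α] (x : α) :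
    Nat.card (fixHom x).range = (Nat.card α - 1).factorial := by
  rw [← Nat.card_congr (MonoidHom.ofInjective (fixHom_injective x)).toEquiv, Nat.card_perm,
    card_ne_subtype]

theorem factorial_pred_lt {n : ℕ} (h : 3 ≤ n) {m : ℕ} (hm : 2 * m = n.factorial) :
    (n - 1).factorial < m := by
  have := Nat.mul_factorial_pred (n := n) (by omega)
  have h3 : 3 * (n - 1).factorial ≤ n * (n - 1).factorial := Nat.mul_le_mul_right _ h
  have := Nat.factorial_pos (n - 1)
  omega

local notation "A" => stabilizer G a
local notation "B" => stabilizer G b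
local notation "X" => coreIn (stabilizer G a) (stabilizer G a ⊓ stabilizer G b)
local notation "Y" => coreIn (stabilizer G b) (stabilizer G a ⊓ stabilizer G b)
local notation "C" => stabilizer G a ⊓ stabilizer G b

/-- The paired suborbit is alternating as well. -/
theorem altAct_right (h : Adj (G := G) a b d) (h6 : 6 ≤ d) (hl : AltAct (A : Subgroup G) b) :
    AltAct (B : Subgroup G) a := by
  obtain ⟨g, hg⟩ := h.pair.conj
  let e : (A : Subgroup G) ≃* (B : Subgroup G) :=
    ((A : Subgroup G).equivMapOfInjective _ (MulAut.conj g).injective).trans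
      (MulEquiv.subgroupCongr hg)
  let π : (B : Subgroup G) →* Equiv.Perm (orbit (A : Subgroup G) b) :=
    (act (A : Subgroup G) b).comp e.symm.toMonoidHom
  have hπ : π.range = (act (A : Subgroup G) b).range := by
    rw [MonoidHom.range_comp, MonoidHom.range_eq_top.2 e.symm.surjective, ← MonoidHom.range_eq_map]
  set Y' := (Y).subgroupOf (B : Subgroup G) with hY'
  have hker : (act (B : Subgroup G) a).ker = Y' := by rw [ker_toPerm_orbit, hY', inf_comm]
  have hd : Nat.card (orbit (A : Subgroup G) b) = d := h.left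
  haveI : Nontrivial (orbit (A : Subgroup G) b) := by
    rw [← Finite.one_lt_card_iff_nontrivial, hd]; omega
  haveI : Nontrivial (orbit (B : Subgroup G) a) := by
    rw [← Finite.one_lt_card_iff_nontrivial, h.right]; omega
  have halt := two_mul_nat_card_alternatingGroup (α := orbit (A : Subgroup G) b)
  rw [Nat.card_perm, hd] at halt
  by_cases hcase : Y' ≤ π.ker
  · -- the quotient by `Y` is at least as large as the alternating group
    have h1 : Nat.card (alternatingGroup (orbit (A : Subgroup G) b)) ≤
        Nat.card (act (B : Subgroup G) a).range := by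
      refine (card_le_of_le hl).trans ?_
      rw [← hπ, ← index_ker, ← index_ker, hker]
      exact Nat.le_of_dvd (Nat.pos_of_ne_zero index_ne_zero_of_finite) (index_dvd_of_le hcase)
    refine Equiv.Perm.alternatingGroup_le_of_index_le_two ?_
    have h2 := (act (B : Subgroup G) a).range.card_mul_index
    rw [Nat.card_perm, h.right, ← halt, mul_comm 2] at h2
    exact Nat.le_of_mul_le_mul_left ((Nat.mul_le_mul_right _ h1).trans h2.le) Nat.card_pos
  exfalso
  have hn : (B : Subgroup G) ≤ normalizer ((Y : Subgroup G) : Set G) := le_normalizer_coreIn _ _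
  have hY1 : alternatingGroup (orbit (A : Subgroup G) b) ≤ Y'.map π := by
    haveI : Y'.Normal := normal_subgroupOf_of_le_normalizer hn
    refine (eq_bot_or_alt_le (by rw [hd]; omega) ?_).resolve_left
      (mt (Subgroup.map_eq_bot_iff _).1 hcase)
    refine le_trans ?_ (le_normalizer_map π)
    rw [normalizer_eq_top_iff.2 inferInstance, ← MonoidHom.range_eq_map, hπ]
    exact hl
  set H := Y' ⊓ (alternatingGroup (orbit (A : Subgroup G) b)).comap π
  let f : H →* alternatingGroup (orbit (A : Subgroup G) b) :=
    (π.comp H.subtype).codRestrict _ fun y => (Subgroup.mem_inf.1 y.2).2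
  have hf : (⊤ : Subgroup H).map f = ⊤ := by
    refine eq_top_iff.2 fun σ _ => ?_
    obtain ⟨y, hy, e1⟩ := hY1 σ.2
    exact ⟨⟨y, Subgroup.mem_inf.2 ⟨hy, by rw [mem_comap, e1]; exact σ.2⟩⟩, mem_top _,
      Subtype.ext e1⟩
  haveI := alternatingGroup.isSimpleGroup (α := orbit (A : Subgroup G) b) (by rw [hd]; omega)
  have hmemY : ∀ y : H, ((y : B) : G) ∈ Y := fun y => mem_subgroupOf.1 (Subgroup.mem_inf.1 y.2).1
  have hYC : (Y : Subgroup G) ≤ C := coreIn_le _ _
  have hsmall : Nat.card (fixHom (base (A : Subgroup G) b)).range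
      < Nat.card (alternatingGroup (orbit (A : Subgroup G) b)) := by
    rw [card_range_fixHom, hd]; exact factorial_pred_lt (by omega) halt
  have hconj : ∀ (k : B) (y : H), (k : G) * ((y : B) : G) * (k : G)⁻¹ ∈ Y := fun k y =>
    (mem_normalizer_iff.1 (hn k.2) _).1 (hmemY y)
  let ψ : B → H →* (fixHom (base (A : Subgroup G) b)).range := fun k =>
    { toFun := fun y => ⟨act (A : Subgroup G) b
        ⟨_, (Subgroup.mem_inf.1 (hYC (hconj k y))).1⟩, mem_range_fixHom.2
          (act_base_iff.2 (Subgroup.mem_inf.1 (hYC (hconj k y))).2)⟩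
      map_one' := by
        refine Subtype.ext ?_
        show act (A : Subgroup G) b _ = 1
        rw [← map_one (act (A : Subgroup G) b)]
        exact congrArg _ (Subtype.ext (by simp))
      map_mul' := fun x y => by
        refine Subtype.ext ?_
        show act (A : Subgroup G) b _ = act (A : Subgroup G) b _ * act (A : Subgroup G) b _
        rw [← map_mul]
        exact congrArg _ (Subtype.ext (by simp [mul_assoc])) }
  have hψ : ∀ k y, ψ k y = 1 → (k : G) * ((y : B) : G) * (k : G)⁻¹ ∈ X := fun k y h0 => by
    have h1 : (⟨_, (Subgroup.mem_inf.1 (hYC (hconj k y))).1⟩ : (A : Subgroup G)) ∈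
        (act (A : Subgroup G) b).ker := congrArg Subtype.val h0
    rw [ker_toPerm_orbit] at h1
    exact h1
  rcases h.second_eq_bot_or (inducedFittingFree h h6 hl) with h0 | h0
  · -- pass to `X ⊓ Y`, then use the conjugates under `A`
    have hf1 := map_ker_eq_top (ψ 1) hsmall hf
    set H1 := (⊤ : Subgroup H) ⊓ (ψ 1).ker
    have hmemX : ∀ y : H1, (((y : H) : B) : G) ∈ X := fun y => by
      have := hψ 1 y (Subgroup.mem_inf.1 y.2).2
      simpa using this
    have hXC : (X : Subgroup G) ≤ C := coreIn_le _ _
    have hc2 : ∀ (k : A) (y : H1), (k : G) * (((y : H) : B) : G) * (k : G)⁻¹ ∈ X := fun k y =>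
      (mem_normalizer_iff.1 (le_normalizer_coreIn _ _ k.2) _).1 (hmemX y)
    let χ : A → H1 →* (fixHom (base (B : Subgroup G) a)).range := fun k =>
      { toFun := fun y => ⟨act (B : Subgroup G) a
          ⟨_, (Subgroup.mem_inf.1 (hXC (hc2 k y))).2⟩, mem_range_fixHom.2
            (act_base_iff.2 (Subgroup.mem_inf.1 (hXC (hc2 k y))).1)⟩
        map_one' := by
          refine Subtype.ext ?_
          show act (B : Subgroup G) a _ = 1
          rw [← map_one (act (B : Subgroup G) a)]
          exact congrArg _ (Subtype.ext (by simp))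
        map_mul' := fun x y => by
          refine Subtype.ext ?_
          show act (B : Subgroup G) a _ = act (B : Subgroup G) a _ * act (B : Subgroup G) a _
          rw [← map_mul]
          exact congrArg _ (Subtype.ext (by simp [mul_assoc])) }
    refine no_map_onto_simple χ (fun y hy => ?_) ?_ (f.comp H1.subtype) ⊤ ?_
    · have hmem : (((y : H) : B) : G) ∈ second (A : Subgroup G) B := by
        rw [second, mem_coreIn]
        refine ⟨(Subgroup.mem_inf.1 (hXC (hmemX y))).1, fun k hk => ?_⟩
        refine Subgroup.mem_inf.2 ⟨hc2 ⟨k, hk⟩ y, ?_⟩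
        have h1 : (⟨_, (Subgroup.mem_inf.1 (hXC (hc2 ⟨k, hk⟩ y))).2⟩ : (B : Subgroup G)) ∈
            (act (B : Subgroup G) a).ker := congrArg Subtype.val (hy ⟨k, hk⟩)
        rw [hker] at h1
        exact h1
      rw [h0, mem_bot] at hmem
      exact Subtype.ext (Subtype.ext (Subtype.ext hmem))
    · rw [card_range_fixHom, h.right]
      exact factorial_pred_lt (by omega) halt
    · rw [← Subgroup.map_map, ← MonoidHom.range_eq_map, range_subtype]
      exact hf1
  · refine no_map_onto_simple ψ (fun y hy => ?_) hsmall f ⊤ hf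
    have hmem : ((y : B) : G) ∈ second (B : Subgroup G) A := by
      rw [second_swap, mem_coreIn]
      refine ⟨(y : B).2, fun k hk => Subgroup.mem_inf.2 ⟨?_, hconj ⟨k, hk⟩ y⟩⟩
      exact hψ ⟨k, hk⟩ y (hy _)
    rw [h0, mem_bot] at hmem
    exact Subtype.ext (Subtype.ext hmem)

/-- The orbit of a subgroup under conjugation by `H`. -/
def conjOrb (H L : Subgroup G) : Set (Subgroup G) :=
  {L' | ∃ x ∈ H, L.map (MulAut.conj x).toMonoidHom = L'}

theorem mem_conjOrb_self (H L : Subgroup G) : L ∈ conjOrb H L :=
  ⟨1, one_mem _, by rw [map_one]; exact L.map_id⟩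

theorem conjOrb_eq {H L L' : Subgroup G} (hm : L' ∈ conjOrb H L) : conjOrb H L' = conjOrb H L := by
  obtain ⟨x, hx, rfl⟩ := hm
  ext M
  constructor
  · rintro ⟨y, hy, rfl⟩
    exact ⟨y * x, mul_mem hy hx, (map_conj_inv_map _ _ _).symm⟩
  · rintro ⟨y, hy, rfl⟩
    refine ⟨y * x⁻¹, mul_mem hy (inv_mem hx), ?_⟩
    rw [map_conj_inv_map, inv_mul_cancel_right]

theorem conjOrb_map (g : G) (H L : Subgroup G) :
    (fun M : Subgroup G => M.map (MulAut.conj g).toMonoidHom) '' conjOrb H L
      = conjOrb (H.map (MulAut.conj g).toMonoidHom) (L.map (MulAut.conj g).toMonoidHom) := by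
  ext M
  constructor
  · rintro ⟨_, ⟨x, hx, rfl⟩, rfl⟩
    refine ⟨_, ⟨x, hx, rfl⟩, ?_⟩
    simp only [map_conj_inv_map]
    congr 2
    simp [mul_assoc]
  · rintro ⟨_, ⟨x, hx, rfl⟩, rfl⟩
    refine ⟨_, ⟨x, hx, rfl⟩, ?_⟩
    simp only [map_conj_inv_map]
    congr 2
    simp [mul_assoc]

theorem comps_map (g : G) (H : Subgroup G) :
    {L | CompIn L (H.map (MulAut.conj g).toMonoidHom)}
      = (fun M : Subgroup G => M.map (MulAut.conj g).toMonoidHom) '' {L | CompIn L H} := by
  ext L
  constructor
  · intro hL
    have hL' : CompIn L (H.map (MulAut.conj g).toMonoidHom) := hL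
    refine ⟨L.map (MulAut.conj g⁻¹).toMonoidHom, ?_, ?_⟩
    · have := hL'.map (MulAut.conj g⁻¹)
      rwa [map_conj_inv_map, inv_mul_cancel, map_one, show H.map (MulEquiv.toMonoidHom
        (1 : MulAut G)) = H from H.map_id] at this
    · show (L.map _).map _ = L
      rw [map_conj_inv_map, mul_inv_cancel, map_one]
      exact L.map_id
  · rintro ⟨M, hM, rfl⟩
    exact CompIn.map hM (MulAut.conj g)

theorem map_conjInj (g : G) :
    Function.Injective (fun M : Subgroup G => M.map (MulAut.conj g).toMonoidHom) :=
  Subgroup.map_injective (MulAut.conj g).injective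

theorem layerIn_normalized {H N : Subgroup G} (hn : H ≤ normalizer (N : Set G)) :
    H ≤ normalizer (layerIn N : Set G) := by
  intro x hx
  refine mem_normalizer_iff_map_conj_eq.2 (Subgroup.eq_of_le_of_card_ge ?_
    (card_map_of_injective (f := (MulAut.conj x).toMonoidHom) (MulAut.conj x).injective).ge)
  exact (layerIn_map (MulAut.conj x) N).trans (le_of_eq (by rw [map_conj_eq_of_mem (hn hx)]))

section Both

variable (h : Adj (G := G) a b d) (h6 : 6 ≤ d) (hl : AltAct (stabilizer G a) b)
  (hr : AltAct (stabilizer G b) a)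

include h h6 hl hr

/-- Components of the two-point stabilizer lie in `X` when `X` has trivial centralizer. -/
theorem comp_le_core (hK : cent (A : Subgroup G) B = ⊥) {L : Subgroup G} (hL : CompIn L C) :
    CompIn L X := by
  have hXC : SubnIn (X : Subgroup G) C :=
    SubnIn.of_normalized (coreIn_le _ _) (inf_le_left.trans (le_normalizer_coreIn _ _))
  rcases hL.le_or_centralizes hXC with h1 | h1
  · exact hL.restrict h1 (coreIn_le _ _)
  · exfalso
    apply hL.not_abelian
    have : L ≤ (⊥ : Subgroup G) := hK ▸ le_inf (hL.1.trans inf_le_left) h1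
    rw [le_bot_iff.1 this]
    intro x hx
    rw [mem_bot.1 hx]
    exact one_mem _

/-- The centralizers of the two cores cannot be trivial on exactly one side. -/
theorem false_of_one_cent (hX : X ≠ (⊥ : Subgroup G)) (hK : cent (A : Subgroup G) B = ⊥)
    (hK' : cent (B : Subgroup G) A ≠ ⊥) : False := by
  have hY : Y ≠ (⊥ : Subgroup G) := core_ne_bot h h6 hl hX
  have hK'Y : cent (B : Subgroup G) A ⊓ Y = ⊥ := by
    have := cent_inf_core h.symm h6 hr
    rwa [inf_comm (B : Subgroup G) A] at this
  have hXA : SubnIn (X : Subgroup G) A :=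
    SubnIn.of_normalized (coreIn_le_left _ _) (le_normalizer_coreIn _ _)
  have hYB : SubnIn (Y : Subgroup G) B :=
    SubnIn.of_normalized (coreIn_le_left _ _) (le_normalizer_coreIn _ _)
  have hYC : SubnIn (Y : Subgroup G) C :=
    SubnIn.of_normalized (coreIn_le _ _) (inf_le_right.trans (le_normalizer_coreIn _ _))
  have hK'B : SubnIn (cent (B : Subgroup G) A) B :=
    SubnIn.of_normalized inf_le_left (le_normalizer_cent _ _)
  set cX := {L | CompIn L (X : Subgroup G)}
  set cY := {L | CompIn L (Y : Subgroup G)}
  have hcA : {L | CompIn L (A : Subgroup G)} = cX := by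
    ext L
    refine ⟨fun (hL : CompIn L A) => ?_, fun (hL : CompIn L X) => hL.trans hXA⟩
    rcases hL.le_or_centralizes hXA with h1 | h1
    · exact hL.restrict h1 (coreIn_le_left _ _)
    · exfalso
      apply hL.not_abelian
      have : L ≤ (⊥ : Subgroup G) := hK ▸ le_inf hL.1 h1
      rw [le_bot_iff.1 this]
      intro x hx
      rw [mem_bot.1 hx]
      exact one_mem _
  have hYX : cY ⊆ cX := fun L (hL : CompIn L Y) => comp_le_core h h6 hl hr hK (hL.trans hYC)
  -- components of `B`
  have hcB : ∀ L, CompIn L (B : Subgroup G) → L ∉ cY →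
      CompIn L (cent (B : Subgroup G) A) := by
    intro L hL hLY
    rcases hL.le_or_centralizes hYB with h1 | h1
    · exact absurd (hL.restrict h1 (coreIn_le_left _ _)) hLY
    · refine hL.restrict (le_inf hL.1 ?_) inf_le_left
      rw [inf_comm (B : Subgroup G) A]
      exact h1
  -- at most one component of the centralizer
  have hone : ∀ L L', CompIn L (cent (B : Subgroup G) A) → CompIn L' (cent (B : Subgroup G) A) →
      L = L' := by
    intro L L' hL hL'
    set S0 := ((alternatingGroup (orbit (B : Subgroup G) a)).comap (act (B : Subgroup G) a)).map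
      (B : Subgroup G).subtype ⊓ cent (B : Subgroup G) A with hS0
    have hinj : ∀ x ∈ cent (B : Subgroup G) A, ∀ hx : x ∈ (B : Subgroup G),
        act (B : Subgroup G) a ⟨x, hx⟩ = 1 → x = 1 := by
      intro x hx hxB h1
      have h2 : (⟨x, hxB⟩ : B) ∈ (act (B : Subgroup G) a).ker := h1
      rw [ker_toPerm_orbit, inf_comm (B : Subgroup G) A] at h2
      exact mem_bot.1 (hK'Y ▸ Subgroup.mem_inf.2 ⟨hx, mem_subgroupOf.1 h2⟩)
    have halt : alternatingGroup (orbit (B : Subgroup G) a) ≤
        img (B : Subgroup G) a (cent B A) := by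
      refine (dichotomy h.symm h6 hr inf_le_left (le_normalizer_cent _ _)).resolve_left
        fun h1 => hK' ?_
      rw [← hK'Y, left_eq_inf]
      rw [inf_comm (B : Subgroup G) A] at h1
      rw [cent, inf_comm (B : Subgroup G) A]
      exact h1
    -- the part over the alternating group is simple
    have hkey : ∀ M, CompIn M (cent (B : Subgroup G) A) → M = S0 := by
      intro M hM
      have hMB : M ≤ B := hM.1.trans inf_le_left
      have hnS : (cent (B : Subgroup G) A) ≤ normalizer (S0 : Set G) := by
        refine (le_inf (inf_le_left.trans ?_) le_normalizer).trans inf_normalizer_le_normalizer_inf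
        exact Comp.normal_map_subtype_iff.1 inferInstance
      have hsn : SubnIn S0 (cent (B : Subgroup G) A) := SubnIn.of_normalized inf_le_right hnS
      let f : S0 →* alternatingGroup (orbit (B : Subgroup G) a) :=
        { toFun := fun x => ⟨act (B : Subgroup G) a ⟨x, map_subtype_le _ (Subgroup.mem_inf.1 x.2).1⟩,
            by
              obtain ⟨y, hy, e⟩ := (Subgroup.mem_inf.1 x.2).1
              have : y = ⟨(x : G), map_subtype_le _ (Subgroup.mem_inf.1 x.2).1⟩ := Subtype.ext e
              exact this ▸ hy⟩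
          map_one' := Subtype.ext (map_one (act (B : Subgroup G) a))
          map_mul' := fun x y => Subtype.ext (map_mul (act (B : Subgroup G) a)
            ⟨x, map_subtype_le _ (Subgroup.mem_inf.1 x.2).1⟩
            ⟨y, map_subtype_le _ (Subgroup.mem_inf.1 y.2).1⟩) }
      have hf : Function.Bijective f := by
        constructor
        · rw [injective_iff_map_eq_one]
          exact fun x hx => Subtype.ext (hinj _ (Subgroup.mem_inf.1 x.2).2 _
            (congrArg Subtype.val hx))
        · intro σ
          obtain ⟨y, hy, e⟩ := halt σ.2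
          exact ⟨⟨y, Subgroup.mem_inf.2 ⟨⟨y, by rw [SetLike.mem_coe, mem_comap, e]; exact σ.2, rfl⟩,
            hy⟩⟩, Subtype.ext e⟩
      haveI := alternatingGroup.isSimpleGroup (α := orbit (B : Subgroup G) a)
        (by rw [h.right]; omega)
      haveI : IsSimpleGroup S0 := (MulEquiv.ofBijective f hf).isSimpleGroup
      rcases hM.le_or_centralizes hsn with h1 | h1
      · have hc : CompIn M S0 := hM.restrict h1 inf_le_right
        rcases IsSubnormal.eq_bot_or_top_of_isSimpleGroup inferInstance hc.2.1 with h2 | h2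
        · exfalso
          apply hM.not_abelian
          have h3 : M = ⊥ := disjoint_self.1 ((subgroupOf_eq_bot.1 h2).mono le_rfl hc.1)
          rw [h3]
          intro x hx
          rw [mem_bot.1 hx]
          exact one_mem _
        · exact le_antisymm h1 (subgroupOf_eq_top.1 h2)
      · exfalso
        apply hM.not_abelian
        intro x hx
        have hxB := hMB hx
        have hc0 : act (B : Subgroup G) a ⟨x, hxB⟩ ∈
            centralizer (alternatingGroup (orbit (B : Subgroup G) a) : Set _) := by
          rw [mem_centralizer_iff]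
          intro σ hσ
          obtain ⟨⟨y, hy⟩, rfl⟩ := hf.2 ⟨σ, hσ⟩ |>.imp (fun y e => congrArg Subtype.val e) |>
            fun ⟨y, e⟩ => (⟨y, e⟩ : ∃ y, (f y : Equiv.Perm _) = σ)
          show act (B : Subgroup G) a _ * act (B : Subgroup G) a _ = _ * act (B : Subgroup G) a _
          rw [← map_mul, ← map_mul]
          exact congrArg _ (Subtype.ext (mem_centralizer_iff.1 (h1 hx) y hy))
        rw [centralizer_alternating (by rw [h.right]; omega), mem_bot] at hc0
        rw [hinj x (hM.1 hx) hxB hc0]
        exact one_mem _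
    rw [hkey L hL, hkey L' hL']
  obtain ⟨g, hg⟩ := h.pair.conj
  have hcard : {L | CompIn L (B : Subgroup G)}.ncard = cX.ncard := by
    rw [← hg, comps_map, Set.ncard_image_of_injective _ (map_conjInj g), hcA]
  have hYsub : cY ⊆ {L | CompIn L (B : Subgroup G)} := fun L (hL : CompIn L Y) => hL.trans hYB
  have hdiffle : ({L | CompIn L (B : Subgroup G)} \ cY).ncard ≤ 1 :=
    (Set.ncard_le_one (Set.toFinite _)).2 fun L hL L' hL' =>
      hone L L' (hcB L hL.1 hL.2) (hcB L' hL'.1 hL'.2)
  have hne : (cX \ cY).Nonempty := by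
    rw [Set.nonempty_iff_ne_empty]
    intro he
    have heq : cX = cY := (Set.diff_eq_empty.1 he).antisymm hYX
    have hlay : layerIn (X : Subgroup G) = layerIn Y := le_antisymm
      (layerIn_le_of_forall fun L hL => CompIn.le_layerIn (show L ∈ cY from heq ▸ hL))
      (layerIn_le_of_forall fun L hL => CompIn.le_layerIn (show L ∈ cX from heq.symm ▸ hL))
    have h0 : layerIn (X : Subgroup G) = ⊥ := by
      refine h.pair.eq_bot_of_both ((layerIn_le _).trans (coreIn_le_left _ _))
        (hlay ▸ (layerIn_le _).trans (coreIn_le_left _ _)) ?_ ?_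
      · exact layerIn_normalized (le_normalizer_coreIn _ _)
      · rw [hlay]; exact layerIn_normalized (le_normalizer_coreIn _ _)
    refine hX (eq_bot_of_no_comp h h6 hl (coreIn_le _ _)
      (inf_le_left.trans (le_normalizer_coreIn _ _)) fun L hL => ?_)
    apply hL.not_abelian
    have := hL.le_layerIn
    rw [h0, le_bot_iff] at this
    rw [this]
    intro x hx
    rw [mem_bot.1 hx]
    exact one_mem _
  have hs1 := Set.ncard_diff hYX (Set.toFinite _)
  have hs2 := Set.ncard_diff hYsub (Set.toFinite _)
  have hs3 := (Set.ncard_pos (Set.toFinite _)).2 hne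
  obtain ⟨L0, hL0⟩ : ∃ L0, cX \ cY = {L0} := Set.ncard_eq_one.1 (by omega)
  obtain ⟨Z, hZ⟩ : ∃ Z, {L | CompIn L (B : Subgroup G)} \ cY = {Z} :=
    Set.ncard_eq_one.1 (by omega)
  -- compare the numbers of conjugation orbits on components
  set OA := (conjOrb (A : Subgroup G)) '' cX
  set OB := (conjOrb (B : Subgroup G)) '' {L | CompIn L (B : Subgroup G)}
  have hOcard : OB.ncard = OA.ncard := by
    have : OB = (Set.image fun M : Subgroup G => M.map (MulAut.conj g).toMonoidHom) '' OA := by
      simp only [OA, OB, ← hg, comps_map, hcA, Set.image_image]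
      exact Set.image_congr fun M _ => (conjOrb_map g _ _).symm
    rw [this, Set.ncard_image_of_injective _ (map_conjInj g).image_injective]
  have hmeet : ∀ O ∈ OA, ∃ L ∈ cY, conjOrb (A : Subgroup G) L = O := by
    rintro O ⟨L, hL, rfl⟩
    by_contra! hno
    have hsub : ∀ M ∈ conjOrb (A : Subgroup G) L, M = L0 := by
      intro M hM
      have hMX : M ∈ cX := by
        obtain ⟨x, hx, rfl⟩ := hM
        have := CompIn.map (show CompIn L X from hL) (MulAut.conj x)
        rwa [map_conj_eq_of_mem (le_normalizer_coreIn _ _ hx)] at this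
      have : M ∈ cX \ cY := ⟨hMX, fun hMY => hno M hMY (conjOrb_eq hM)⟩
      rwa [hL0] at this
    have hfix : ∀ x ∈ (A : Subgroup G), ∀ M ∈ cY, M.map (MulAut.conj x).toMonoidHom ∈ cY := by
      intro x hx M hM
      by_contra hn
      have hX' : M.map (MulAut.conj x).toMonoidHom ∈ cX := by
        have := CompIn.map (show CompIn M X from hYX hM) (MulAut.conj x)
        rwa [map_conj_eq_of_mem (le_normalizer_coreIn _ _ hx)] at this
      have h1 : M.map (MulAut.conj x).toMonoidHom = L := by
        have : M.map (MulAut.conj x).toMonoidHom ∈ cX \ cY := ⟨hX', hn⟩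
        rw [hL0] at this
        rw [this, hsub L (mem_conjOrb_self _ _)]
      refine hno M hM (conjOrb_eq ⟨x⁻¹, inv_mem hx, ?_⟩)
      rw [← h1, map_conj_inv_map, inv_mul_cancel, map_one]
      exact M.map_id
    have hnA : (A : Subgroup G) ≤ normalizer (layerIn (Y : Subgroup G) : Set G) := by
      have hle : ∀ x ∈ (A : Subgroup G),
          (layerIn (Y : Subgroup G)).map (MulAut.conj x).toMonoidHom ≤ layerIn Y := by
        intro x hx
        rw [map_le_iff_le_comap]
        refine layerIn_le_of_forall fun M hM => ?_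
        rw [← map_le_iff_le_comap]
        exact CompIn.le_layerIn (hfix x hx M hM)
      intro x hx
      exact mem_normalizer_iff_map_conj_eq.2 (Subgroup.eq_of_le_of_card_ge (hle x hx)
        (card_map_of_injective (f := (MulAut.conj x).toMonoidHom) (MulAut.conj x).injective).ge)
    have h0 := h.pair.eq_bot_of_both (((layerIn_le _).trans (coreIn_le _ _)).trans inf_le_left)
      ((layerIn_le _).trans (coreIn_le_left _ _)) hnA
      (layerIn_normalized (le_normalizer_coreIn _ _))
    refine hY (eq_bot_of_no_comp h h6 hl (coreIn_le _ _)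
      (inf_le_right.trans (le_normalizer_coreIn _ _)) fun M hM => ?_)
    apply hM.not_abelian
    have := hM.le_layerIn
    rw [h0, le_bot_iff] at this
    rw [this]
    intro x hx
    rw [mem_bot.1 hx]
    exact one_mem _
  choose s hs hsO using hmeet
  have hsame : ∀ L ∈ cY, conjOrb (B : Subgroup G) L ⊆ conjOrb (A : Subgroup G) L ∩ cY := by
    rintro L hL _ ⟨x, hx, rfl⟩
    have hmem : L.map (MulAut.conj x).toMonoidHom ∈ cY := by
      have := CompIn.map (show CompIn L Y from hL) (MulAut.conj x)
      rwa [map_conj_eq_of_mem (le_normalizer_coreIn _ _ hx)] at this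
    refine ⟨?_, hmem⟩
    obtain ⟨k, hk, hc⟩ := exists_mem_cent h.symm h6 hr hK' hx
    refine ⟨k⁻¹ * x, (Subgroup.mem_inf.1 hc).2, ?_⟩
    have hfix : ((L.map (MulAut.conj x).toMonoidHom)).map (MulAut.conj k⁻¹).toMonoidHom
        = L.map (MulAut.conj x).toMonoidHom := by
      refine map_conj_eq_of_mem (centralizer_le_normalizer _ (inv_mem (centralizer_le ?_
        (Subgroup.mem_inf.1 hk).2)))
      rw [inf_comm (B : Subgroup G) A]
      exact hmem.1
    rw [← hfix, map_conj_inv_map]
  have hlt : OA.ncard < OB.ncard := by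
    let Φ : OA → OB := fun O => ⟨conjOrb (B : Subgroup G) (s O.1 O.2),
      ⟨_, hYsub (hs O.1 O.2), rfl⟩⟩
    have hinj : Function.Injective Φ := by
      intro O O' he
      have h1 : s O'.1 O'.2 ∈ conjOrb (B : Subgroup G) (s O.1 O.2) := by
        rw [show conjOrb (B : Subgroup G) (s O.1 O.2) = conjOrb B (s O'.1 O'.2) from
          congrArg Subtype.val he]
        exact mem_conjOrb_self _ _
      have h2 := conjOrb_eq (hsame _ (hs O.1 O.2) h1).1
      rw [hsO, hsO] at h2
      exact Subtype.ext h2.symm
    rw [← Nat.card_coe_set_eq, ← Nat.card_coe_set_eq]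
    rw [Nat.card_eq_fintype_card, Nat.card_eq_fintype_card]
    refine Fintype.card_lt_of_injective_not_surjective Φ hinj fun hsurj => ?_
    have hZ' : Z ∈ {L | CompIn L (B : Subgroup G)} \ cY := by rw [hZ]; exact Set.mem_singleton _
    obtain ⟨O, hO⟩ := hsurj ⟨conjOrb (B : Subgroup G) Z, ⟨Z, hZ'.1, rfl⟩⟩
    have h1 : Z ∈ conjOrb (B : Subgroup G) (s O.1 O.2) := by
      rw [show conjOrb (B : Subgroup G) (s O.1 O.2) = conjOrb B Z from congrArg Subtype.val hO]
      exact mem_conjOrb_self _ _
    exact hZ'.2 (hsame _ (hs O.1 O.2) h1).2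
  omega

end Both

end CfsgLib.ThompsonWielandt
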