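import Cfsg.Agent.ThompsonWielandt.AltMain

/-!
# The point stabilizer embeds into a product of two symmetric groups
-/

set_option autoImplicit false
set_option linter.unusedSectionVars false

noncomputable section

namespace CfsgLib.ThompsonWielandt

open Subgroup CfsgLib.CharP MulAction
open scoped Classical

attribute [local instance] Fintype.ofFinite

variable {G : Type*} [Group G] [Finite G] {Ω : Type*} [MulAction G Ω] [Finite Ω] {a b : Ω} {d : ℕ}

theorem sign_eq_one_or_mul {α : Type*} [Fintype α] [DecidableEq α] {H : Subgroup (Equiv.Perm α)}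
    (halt : alternatingGroup α ≤ H) {ρ : Equiv.Perm α} (hρ : ρ ∈ H)
    (hodd : ρ ∉ alternatingGroup α) : H = ⊤ := by
  rw [eq_top_iff]
  intro σ _
  by_cases h : σ ∈ alternatingGroup α
  · exact halt h
  · have : σ * ρ⁻¹ ∈ alternatingGroup α := by
      rw [Equiv.Perm.mem_alternatingGroup] at h hodd ⊢
      rw [map_mul, map_inv, (Int.units_eq_one_or _).resolve_left h,
        (Int.units_eq_one_or _).resolve_left hodd]
      rfl
    simpa using mul_mem (halt this) hρ

local notation "A" => stabilizer G a
local notation "B" => stabilizer G b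
local notation "X" => coreIn (stabilizer G a) (stabilizer G a ⊓ stabilizer G b)
local notation "Y" => coreIn (stabilizer G b) (stabilizer G a ⊓ stabilizer G b)
local notation "C" => stabilizer G a ⊓ stabilizer G b

section Both

variable (h : Adj (G := G) a b d) (h6 : 6 ≤ d) (hl : AltAct (stabilizer G a) b)
  (hr : AltAct (stabilizer G b) a)

include h h6 hl hr

/-- Both cores have nontrivial centralizers and meet trivially. -/
theorem cores_facts (hX : X ≠ (⊥ : Subgroup G)) :
    cent (A : Subgroup G) B ≠ ⊥ ∧ cent (B : Subgroup G) A ≠ ⊥ ∧ X ⊓ Y = (⊥ : Subgroup G) := by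
  have hY : Y ≠ (⊥ : Subgroup G) := core_ne_bot h h6 hl hX
  by_cases hK : cent (A : Subgroup G) B = ⊥
  · exfalso
    by_cases hK' : cent (B : Subgroup G) A = ⊥
    · -- all components of the two point stabilizer lie in both cores
      have hXC : SubnIn (X : Subgroup G) C :=
        SubnIn.of_normalized (coreIn_le _ _) (inf_le_left.trans (le_normalizer_coreIn _ _))
      have hYC : SubnIn (Y : Subgroup G) C :=
        SubnIn.of_normalized (coreIn_le _ _) (inf_le_right.trans (le_normalizer_coreIn _ _))
      have h1 : ∀ L, CompIn L (C : Subgroup G) → CompIn L (Y : Subgroup G) := by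
        intro L hL
        rw [inf_comm (A : Subgroup G) B] at hL ⊢
        exact comp_le_core h.symm h6 hr hl hK' hL
      have hlay : layerIn (X : Subgroup G) = layerIn Y := le_antisymm
        (layerIn_le_of_forall fun L hL => (h1 L (hL.trans hXC)).le_layerIn)
        (layerIn_le_of_forall fun L hL =>
          (comp_le_core h h6 hl hr hK (hL.trans hYC)).le_layerIn)
      have h0 : layerIn (X : Subgroup G) = ⊥ := by
        refine h.pair.eq_bot_of_both ((layerIn_le _).trans (coreIn_le_left _ _))
          (hlay ▸ (layerIn_le _).trans (coreIn_le_left _ _)) ?_ ?_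
        · exact layerIn_normalized (le_normalizer_coreIn _ _)
        · rw [hlay]
          exact layerIn_normalized (le_normalizer_coreIn _ _)
      refine hX (eq_bot_of_no_comp h h6 hl (coreIn_le _ _)
        (inf_le_left.trans (le_normalizer_coreIn _ _)) fun L hL => ?_)
      apply hL.not_abelian
      have := hL.le_layerIn
      rw [h0, le_bot_iff] at this
      rw [this]
      intro x hx
      rw [mem_bot.1 hx]
      exact one_mem _
    · exact false_of_one_cent h h6 hl hr hX hK hK'
  refine ⟨hK, ?_, ?_⟩
  · intro hK'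
    refine false_of_one_cent h.symm h6 hr hl ?_ hK' hK
    rwa [inf_comm (B : Subgroup G) A]
  · by_cases hK' : cent (B : Subgroup G) A = ⊥
    · exfalso
      refine false_of_one_cent h.symm h6 hr hl ?_ hK' hK
      rwa [inf_comm (B : Subgroup G) A]
    refine h.pair.eq_bot_of_both (inf_le_left.trans (coreIn_le_left _ _))
      (inf_le_right.trans (coreIn_le_left _ _)) (le_normalizer_inf_cores h h6 hl hK) ?_
    have := le_normalizer_inf_cores h.symm h6 hr hK'
    rwa [inf_comm (B : Subgroup G) A, inf_comm (Y : Subgroup G) X] at this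

/-- The embedding of the point stabilizer. -/
theorem exists_embedding (hX : X ≠ (⊥ : Subgroup G)) :
    ∃ Φ : (A : Subgroup G) →* Equiv.Perm (orbit (A : Subgroup G) b) ×
        Equiv.Perm {y : orbit (B : Subgroup G) a // y ≠ base (B : Subgroup G) a},
      Function.Injective Φ ∧ (∀ x, (Φ x).1 = act (A : Subgroup G) b x) ∧
      (∀ σ ∈ alternatingGroup (orbit (A : Subgroup G) b), (σ, 1) ∈ Φ.range) ∧
      (∀ σ ∈ alternatingGroup {y : orbit (B : Subgroup G) a // y ≠ base (B : Subgroup G) a},
        ((1 : Equiv.Perm (orbit (A : Subgroup G) b)), σ) ∈ Φ.range) ∧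
      ((∀ x, act (A : Subgroup G) b x ∈ alternatingGroup (orbit (A : Subgroup G) b)) →
        ∀ x, (Φ x).2 ∈
          alternatingGroup {y : orbit (B : Subgroup G) a // y ≠ base (B : Subgroup G) a}) := by
  obtain ⟨hK, hK', hU⟩ := cores_facts h h6 hl hr hX
  have hXC : (X : Subgroup G) ≤ C := coreIn_le _ _
  have hY : Y ≠ (⊥ : Subgroup G) := core_ne_bot h h6 hl hX
  have hYC : (Y : Subgroup G) ≤ C := coreIn_le _ _
  have hcore' : coreIn (B : Subgroup G) (B ⊓ A) = Y := by rw [inf_comm (B : Subgroup G) A]
  -- images of the cores on the other suborbit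
  have hXimg : altStab (base (B : Subgroup G) a) ≤ img (B : Subgroup G) a X := by
    refine (dichotomy_inf h.symm h6 hr (hXC.trans (le_of_eq (inf_comm _ _))) ?_).resolve_left ?_
    · exact inf_le_right.trans (le_normalizer_coreIn _ _)
    · rw [hcore']
      exact fun h1 => hX (by rw [← hU, left_eq_inf]; exact h1)
  have hYimg : altStab (base (A : Subgroup G) b) ≤ img (A : Subgroup G) b Y := by
    refine (dichotomy_inf h h6 hl hYC ?_).resolve_left fun h1 => hY ?_
    · exact inf_le_right.trans (le_normalizer_coreIn _ _)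
    · rw [← hU, right_eq_inf]
      exact h1
  set K := (cent (A : Subgroup G) B).subgroupOf (A : Subgroup G) with hKdef
  haveI : K.Normal := normal_subgroupOf_of_le_normalizer (le_normalizer_cent _ _)
  let toB : (C : Subgroup G) →* (B : Subgroup G) := Subgroup.inclusion inf_le_right
  have hstab : ∀ c, act (B : Subgroup G) a (toB c) ∈ (fixHom (base (B : Subgroup G) a)).range :=
    fun c => mem_range_fixHom.2 (act_base_iff.2 (Subgroup.mem_inf.1 c.2).1)
  let f2 : (C : Subgroup G) →*
      Equiv.Perm {y : orbit (B : Subgroup G) a // y ≠ base (B : Subgroup G) a} :=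
    (MonoidHom.ofInjective (fixHom_injective (base (B : Subgroup G) a))).symm.toMonoidHom.comp
      (((act (B : Subgroup G) a).comp toB).codRestrict _ hstab)
  have hf2 : ∀ c, fixHom (base (B : Subgroup G) a) (f2 c) = act (B : Subgroup G) a (toB c) := by
    intro c
    exact congrArg Subtype.val ((MonoidHom.ofInjective
      (fixHom_injective (base (B : Subgroup G) a))).apply_symm_apply ⟨_, hstab c⟩)
  let f1 : (C : Subgroup G) →* (A : Subgroup G) ⧸ K :=
    (QuotientGroup.mk' K).comp (Subgroup.inclusion inf_le_left)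
  have hf1 : Function.Surjective f1 := by
    intro q
    obtain ⟨x, rfl⟩ := QuotientGroup.mk'_surjective K q
    obtain ⟨k, hk, hc⟩ := exists_mem_cent h h6 hl hK x.2
    refine ⟨⟨_, hc⟩, ?_⟩
    show QuotientGroup.mk' K _ = QuotientGroup.mk' K _
    refine (QuotientGroup.eq).2 (mem_subgroupOf.2 ?_)
    show (k⁻¹ * (x : G))⁻¹ * (x : G) ∈ cent (A : Subgroup G) B
    have := (mem_normalizer_iff.1 (le_normalizer_cent (A : Subgroup G) B (inv_mem x.2)) k).1 hk
    simpa [mul_assoc] using this
  have hle : f1.ker ≤ f2.ker := by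
    intro c hc
    have hck : (c : G) ∈ cent (A : Subgroup G) B := by
      have := (QuotientGroup.eq_one_iff _).1 hc
      exact mem_subgroupOf.1 this
    apply fixHom_injective (base (B : Subgroup G) a)
    rw [map_one, hf2]
    refine centralizer_altStab _ (by rw [h.right]; omega) (act_base_iff.2 (Subgroup.mem_inf.1 c.2).1) ?_
    rw [mem_centralizer_iff]
    intro g hg
    obtain ⟨x, hx, rfl⟩ := hXimg hg
    rw [← map_mul, ← map_mul]
    exact congrArg _ (Subtype.ext (mem_centralizer_iff.1 (Subgroup.mem_inf.1 hck).2 x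
      (mem_subgroupOf.1 hx)))
  let ψ := (f1.liftOfSurjective hf1 ⟨f2, hle⟩).comp (QuotientGroup.mk' K)
  have hψC : ∀ (c : (C : Subgroup G)), ψ ⟨c, (Subgroup.mem_inf.1 c.2).1⟩ = f2 c := fun c =>
    MonoidHom.liftOfRightInverse_comp_apply f1 _ (Function.rightInverse_surjInv hf1) ⟨f2, hle⟩ c
  refine ⟨(act (A : Subgroup G) b).prod ψ, ?_, fun x => rfl, ?_, ?_, ?_⟩
  · rw [injective_iff_map_eq_one]
    intro x hx
    obtain ⟨h1, h2⟩ := Prod.ext_iff.1 hx
    have hxX : (x : G) ∈ X := by
      have : x ∈ (act (A : Subgroup G) b).ker := h1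
      rwa [ker_toPerm_orbit] at this
    have hxY : (x : G) ∈ Y := by
      have h3 : act (B : Subgroup G) a (toB ⟨x, hXC hxX⟩) = 1 := by
        rw [← hf2, ← hψC]
        show fixHom _ (ψ x) = 1
        rw [show ψ x = 1 from h2, map_one]
      have h4 : toB ⟨x, hXC hxX⟩ ∈ (act (B : Subgroup G) a).ker := h3
      rw [ker_toPerm_orbit, hcore'] at h4
      exact h4
    exact Subtype.ext (mem_bot.1 (hU ▸ Subgroup.mem_inf.2 ⟨hxX, hxY⟩))
  · intro σ hσ
    have halt : alternatingGroup (orbit (A : Subgroup G) b) ≤ img A b (cent A B) := by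
      refine (dichotomy h h6 hl inf_le_left (le_normalizer_cent _ _)).resolve_left fun h1 => hK ?_
      rw [← cent_inf_core h h6 hl, left_eq_inf]
      exact h1
    obtain ⟨k, hk, rfl⟩ := halt hσ
    refine ⟨k, Prod.ext rfl ?_⟩
    show ψ k = 1
    show f1.liftOfSurjective hf1 ⟨f2, hle⟩ (QuotientGroup.mk' K k) = 1
    rw [show QuotientGroup.mk' K k = 1 from (QuotientGroup.eq_one_iff k).2 hk, map_one]
  · intro σ hσ
    obtain ⟨x, hx, he⟩ := hXimg ⟨σ, hσ, rfl⟩
    have hxX : (x : G) ∈ X := mem_subgroupOf.1 hx
    refine ⟨⟨x, (Subgroup.mem_inf.1 (hXC hxX)).1⟩, Prod.ext ?_ ?_⟩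
    · show (⟨x, _⟩ : (A : Subgroup G)) ∈ (act (A : Subgroup G) b).ker
      rw [ker_toPerm_orbit]
      exact hxX
    · show ψ ⟨((⟨x, hXC hxX⟩ : (C : Subgroup G)) : G), _⟩ = σ
      rw [hψC]
      apply fixHom_injective (base (B : Subgroup G) a)
      rw [hf2]
      exact he
  · intro heven x
    by_contra hodd
    obtain ⟨c, hc⟩ := hf1 (QuotientGroup.mk' K x)
    have hψx : (ψ x) = f2 c := by
      show f1.liftOfSurjective hf1 ⟨f2, hle⟩ (QuotientGroup.mk' K x) = f2 c
      rw [← hc]
      exact MonoidHom.liftOfRightInverse_comp_apply f1 _ (Function.rightInverse_surjInv hf1) ⟨f2, hle⟩ c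
    have hfix : act (B : Subgroup G) a (toB c) ∈ img (B : Subgroup G) a C :=
      ⟨toB c, c.2, rfl⟩
    -- cardinalities
    haveI : Nontrivial (orbit (A : Subgroup G) b) := by
      rw [← Finite.one_lt_card_iff_nontrivial, h.left]; omega
    have hd : Nat.card (orbit (A : Subgroup G) b) = d := h.left
    have halt := two_mul_nat_card_alternatingGroup (α := orbit (A : Subgroup G) b)
    rw [Nat.card_perm, hd] at halt
    have hSA := two_mul_card_altStab (base (A : Subgroup G) b) (by omega)
    have hSB := two_mul_card_altStab (base (B : Subgroup G) a) (by rw [h.right]; omega)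
    rw [hd] at hSA
    rw [h.right] at hSB
    have hA1 := card_img (A : Subgroup G) b (N := C) inf_le_left
    rw [inf_eq_right.2 (coreIn_le _ _)] at hA1
    have hA2 : Nat.card (img (A : Subgroup G) b C) ≤ Nat.card (altStab (base (A : Subgroup G) b)) :=
      card_le_of_le fun g hg => mem_altStab.2 ⟨by
        obtain ⟨y, -, rfl⟩ := hg
        exact heven y, img_fix inf_le_right g hg⟩
    have hA3 : Nat.card (altStab (base (A : Subgroup G) b)) ≤ Nat.card (img (A : Subgroup G) b Y) :=
      card_le_of_le hYimg
    have hA4 := card_img (A : Subgroup G) b (N := Y) (hYC.trans inf_le_left)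
    rw [inf_comm (Y : Subgroup G) X, hU, card_bot, mul_one] at hA4
    have hB1 := card_img (B : Subgroup G) a (N := C) inf_le_right
    rw [hcore', inf_eq_right.2 (coreIn_le _ _)] at hB1
    have hB2 := card_img (B : Subgroup G) a (N := X) (hXC.trans inf_le_right)
    rw [hcore', hU, card_bot, mul_one] at hB2
    have hCle : img (B : Subgroup G) a C = img (B : Subgroup G) a X := by
      refine (Subgroup.eq_of_le_of_card_ge (img_mono _ _ hXC) ?_).symm
      have hpos : 0 < Nat.card (Y : Subgroup G) := Nat.card_pos
      refine Nat.le_of_mul_le_mul_right ?_ hpos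
      rw [hB1, ← hA1, hB2, mul_comm (Nat.card (X : Subgroup G))]
      exact Nat.mul_le_mul_right _ (hA2.trans (hA3.trans hA4.le))
    rw [hCle] at hfix
    -- so `X` induces the full symmetric group on the other points
    have hfull : ((img (B : Subgroup G) a X).comap (fixHom (base (B : Subgroup G) a))) = ⊤ := by
      refine sign_eq_one_or_mul (fun σ hσ => hXimg ⟨σ, hσ, rfl⟩) (ρ := f2 c) ?_ (hψx ▸ hodd)
      rw [mem_comap, hf2]
      exact hfix
    have hXcard : (d - 1).factorial ≤ Nat.card (X : Subgroup G) := by
      rw [← hB2, ← h.right, ← card_range_fixHom (base (B : Subgroup G) a)]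
      refine card_le_of_le ?_
      rintro _ ⟨σ, rfl⟩
      exact (hfull ▸ mem_top σ : σ ∈ (img (B : Subgroup G) a X).comap _)
    -- hence `B` induces the full symmetric group
    have hA5 := card_img (A : Subgroup G) b (N := A) le_rfl
    rw [inf_eq_right.2 (coreIn_le_left _ _), ← range_eq_img, ← h.card_eq] at hA5
    have hA6 : Nat.card (act (A : Subgroup G) b).range
        = Nat.card (alternatingGroup (orbit (A : Subgroup G) b)) := by
      rw [le_antisymm (fun g hg => by obtain ⟨y, rfl⟩ := hg; exact heven y) hl]
    have hB5 := card_img (B : Subgroup G) a (N := B) le_rfl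
    rw [hcore', inf_eq_right.2 (coreIn_le_left _ _), ← range_eq_img] at hB5
    have hYcard : Nat.card (Y : Subgroup G) * 2 ≤ (d - 1).factorial := by
      rw [← hA4, ← hSA, mul_comm]
      exact Nat.mul_le_mul_left _ ((card_le_of_le (img_mono _ _ hYC)).trans hA2)
    have hsurj : (act (B : Subgroup G) a).range = ⊤ := by
      refine Subgroup.eq_top_of_le_card _ ?_
      rw [Nat.card_perm, h.right]
      refine Nat.le_of_mul_le_mul_right (le_trans ?_ (le_of_eq hB5.symm))
        (Nat.card_pos (α := (Y : Subgroup G)))
      rw [← hA5, hA6, ← halt, mul_comm 2, mul_assoc]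
      refine Nat.mul_le_mul_left _ ?_
      omega
    obtain ⟨g, hg⟩ := h.pair.conj
    let e : (A : Subgroup G) ≃* (B : Subgroup G) :=
      ((A : Subgroup G).equivMapOfInjective _ (MulAut.conj g).injective).trans
        (MulEquiv.subgroupCongr hg)
    let f := (act (B : Subgroup G) a).comp e.toMonoidHom
    have hfs : f.range = ⊤ := by
      rw [MonoidHom.range_comp, MonoidHom.range_eq_top.2 e.surjective, ← MonoidHom.range_eq_map,
        hsurj]
    have hidx : ∀ N : Subgroup (A : Subgroup G), N.map f = ⊥ → d.factorial * Nat.card N ≤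
        Nat.card (A : Subgroup G) := by
      intro N hN
      rw [Subgroup.map_eq_bot_iff] at hN
      have h1 := Nat.le_of_dvd (Nat.pos_of_ne_zero index_ne_zero_of_finite) (index_dvd_of_le hN)
      rw [index_ker, hfs, card_top, Nat.card_perm, h.right] at h1
      rw [← card_mul_index N, mul_comm]
      exact Nat.mul_le_mul_left _ h1
    have hcA : Nat.card (A : Subgroup G) =
        Nat.card (alternatingGroup (orbit (A : Subgroup G) b)) * Nat.card (X : Subgroup G) := by
      rw [← hA6, hA5, h.card_eq]
    have hnK : (⊤ : Subgroup (Equiv.Perm (orbit (B : Subgroup G) a))) ≤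
        normalizer (K.map f : Set (Equiv.Perm (orbit (B : Subgroup G) a))) := by
      refine le_trans ?_ (le_normalizer_map f)
      rw [normalizer_eq_top_iff.2 inferInstance, ← MonoidHom.range_eq_map, hfs]
    rcases eq_bot_or_alt_le (by rw [h.right]; omega) (le_top.trans hnK) with h0 | h0
    · have h1 := hidx K h0
      have h2 : Nat.card (alternatingGroup (orbit (A : Subgroup G) b)) ≤ Nat.card K := by
        have h3 : alternatingGroup (orbit (A : Subgroup G) b) ≤ img A b (cent A B) := by
          refine (dichotomy h h6 hl inf_le_left (le_normalizer_cent _ _)).resolve_left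
            fun h4 => hK ?_
          rw [← cent_inf_core h h6 hl, left_eq_inf]
          exact h4
        exact (card_le_of_le h3).trans (Nat.le_of_dvd Nat.card_pos (card_map_dvd _ _))
      have hX2 : Nat.card (X : Subgroup G) ≤ (d - 1).factorial := by
        rw [← hB2, ← h.right, ← card_range_fixHom (base (B : Subgroup G) a)]
        exact card_le_of_le fun g hg => mem_range_fixHom.2 (img_fix (hXC.trans inf_le_left) g hg)
      have := factorial_pred_lt (n := d) (by omega) halt
      rw [hcA] at h1
      nlinarith [Nat.card_pos (α := K)]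
    · -- `X` centralises `K`, so it is in the kernel
      have h1 := hidx ((X : Subgroup G).subgroupOf (A : Subgroup G)) ?_
      · rw [hcA, Nat.card_congr (subgroupOfEquivOfLe (coreIn_le_left _ _)).toEquiv] at h1
        have := Nat.le_of_mul_le_mul_right h1 Nat.card_pos
        have := Nat.factorial_pos d
        omega
      · rw [eq_bot_iff, ← centralizer_alternating (α := orbit (B : Subgroup G) a)
          (by rw [h.right]; omega)]
        refine le_trans ?_ (centralizer_le h0)
        rintro _ ⟨y, hy, rfl⟩
        rw [mem_centralizer_iff]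
        rintro _ ⟨k, hk, rfl⟩
        rw [← map_mul, ← map_mul]
        exact congrArg _ (Subtype.ext (mem_centralizer_iff.1
          (Subgroup.mem_inf.1 (mem_subgroupOf.1 hk)).2 y (mem_subgroupOf.1 hy)).symm)

end Both

end CfsgLib.ThompsonWielandt
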