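import Cfsg.Agent.ThompsonWielandt.Fitting
import Cfsg.Agent.ThompsonWielandt.AltFacts

/-!
# Suborbits on which the point stabilizer induces the alternating or symmetric group
-/

set_option autoImplicit false
set_option linter.unusedSectionVars false

noncomputable section

namespace CfsgLib.ThompsonWielandt

open Subgroup CfsgLib.CharP MulAction
open scoped Classical

attribute [local instance] Fintype.ofFinite

variable {G : Type*} [Group G]

theorem CompIn.map [Finite G] {L H : Subgroup G} (hL : CompIn L H) (e : G ≃* G) :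
    CompIn (L.map e.toMonoidHom) (H.map e.toMonoidHom) := by
  refine ⟨map_mono hL.1, ?_⟩
  have := Comp.component_map_equiv (e.subgroupMap H) hL.2
  have e1 : (L.map e.toMonoidHom).subgroupOf (H.map e.toMonoidHom)
      = (L.subgroupOf H).map (e.subgroupMap H).toMonoidHom := ?_
  · rwa [e1]
  ext y
  simp only [mem_subgroupOf, Subgroup.mem_map, MulEquiv.coe_toMonoidHom]
  constructor
  · rintro ⟨x, hx, h1⟩
    exact ⟨⟨x, hL.1 hx⟩, hx, Subtype.ext h1⟩
  · rintro ⟨x, hx, rfl⟩
    exact ⟨x, hx, rfl⟩

variable {Ω : Type*} [MulAction G Ω]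

/-- The action of a subgroup on one of its orbits. -/
abbrev act (A : Subgroup G) (b : Ω) : A →* Equiv.Perm (orbit A b) := toPermHom A (orbit A b)

/-- The base point of an orbit. -/
abbrev base (A : Subgroup G) (b : Ω) : orbit A b := ⟨b, mem_orbit_self b⟩

/-- The image of a subgroup in the group induced on an orbit. -/
def img (A : Subgroup G) (b : Ω) (N : Subgroup G) : Subgroup (Equiv.Perm (orbit A b)) :=
  (N.subgroupOf A).map (act A b)

theorem act_base_iff {A : Subgroup G} {b : Ω} {x : A} :
    act A b x (base A b) = base A b ↔ (x : G) ∈ stabilizer G b := by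
  rw [Subtype.ext_iff, mem_stabilizer_iff]
  rfl

theorem img_fix {A : Subgroup G} {b : Ω} {N : Subgroup G} (h : N ≤ stabilizer G b) :
    ∀ g ∈ img A b N, g (base A b) = base A b := by
  rintro g ⟨x, hx, rfl⟩
  exact act_base_iff.2 (h hx)

theorem img_mono (A : Subgroup G) (b : Ω) {N N' : Subgroup G} (h : N ≤ N') :
    img A b N ≤ img A b N' :=
  map_mono (comap_mono h)

theorem img_normalized {A : Subgroup G} {b : Ω} {N H : Subgroup G}
    (hn : H ≤ normalizer (N : Set G)) :
    img A b H ≤ normalizer (img A b N : Set (Equiv.Perm (orbit A b))) := by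
  refine le_trans (map_mono ?_) (le_normalizer_map _)
  intro x hx
  rw [mem_normalizer_iff]
  intro y
  exact mem_normalizer_iff.1 (hn hx) y

theorem img_eq_bot_iff {A : Subgroup G} {b : Ω} {N : Subgroup G} (h : N ≤ A) :
    img A b N = ⊥ ↔ N ≤ coreIn A (A ⊓ stabilizer G b) := by
  rw [img, Subgroup.map_eq_bot_iff, ker_toPerm_orbit]
  exact ⟨fun h1 x hx => h1 (x := ⟨x, h hx⟩) hx, fun h1 => comap_mono h1⟩

theorem range_eq_img (A : Subgroup G) (b : Ω) : (act A b).range = img A b A := by
  rw [img, subgroupOf_self, MonoidHom.range_eq_map]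

variable [Finite G]

theorem card_img (A : Subgroup G) (b : Ω) {N : Subgroup G} (h : N ≤ A) :
    Nat.card (img A b N) * Nat.card (N ⊓ coreIn A (A ⊓ stabilizer G b) : Subgroup G)
      = Nat.card N := by
  rw [img, ← Nat.card_congr (subgroupOfEquivOfLe h).toEquiv,
    ← Nat.card_congr (subgroupOfEquivOfLe (inf_le_left.trans h :
      N ⊓ coreIn A (A ⊓ stabilizer G b) ≤ A)).toEquiv]
  have h1 := ((act A b).comp (N.subgroupOf A).subtype).ker.index_mul_card
  rw [index_ker, MonoidHom.range_comp, range_subtype] at h1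
  rw [← h1]
  congr 1
  refine Nat.card_congr
    { toFun := fun x => ⟨⟨x.1, ?_⟩, ?_⟩
      invFun := fun x => ⟨x.1.1, ?_⟩
      left_inv := fun x => rfl
      right_inv := fun x => rfl }
  · exact mem_subgroupOf.2 (Subgroup.mem_inf.1 (mem_subgroupOf.1 x.2)).1
  · show (x.1 : A) ∈ (act A b).ker
    rw [ker_toPerm_orbit]
    exact mem_subgroupOf.2 (Subgroup.mem_inf.1 (mem_subgroupOf.1 x.2)).2
  · have h2 : (x.1.1 : A) ∈ (act A b).ker := x.2
    rw [ker_toPerm_orbit] at h2
    exact mem_subgroupOf.2 (Subgroup.mem_inf.2 ⟨mem_subgroupOf.1 x.1.2, mem_subgroupOf.1 h2⟩)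

variable [Finite Ω]

/-- `A` induces at least the alternating group on the orbit of `b`. -/
def AltAct (A : Subgroup G) (b : Ω) : Prop := alternatingGroup (orbit A b) ≤ (act A b).range

/-- The centralizer in `A` of its first core. -/
def cent (A B : Subgroup G) : Subgroup G := A ⊓ centralizer (coreIn A (A ⊓ B) : Set G)

theorem le_normalizer_cent (A B : Subgroup G) : A ≤ normalizer (cent A B : Set G) :=
  (le_inf le_normalizer ((le_normalizer_coreIn A (A ⊓ B)).trans
    (normalizer_le_normalizer_centralizer' _))).trans inf_normalizer_le_normalizer_inf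

variable {a b : Ω} {d : ℕ}

section One

variable (h : Adj (G := G) a b d) (h6 : 6 ≤ d) (hl : AltAct (stabilizer G a) b)

local notation "A" => stabilizer G a
local notation "B" => stabilizer G b
local notation "X" => coreIn (stabilizer G a) (stabilizer G a ⊓ stabilizer G b)
local notation "Y" => coreIn (stabilizer G b) (stabilizer G a ⊓ stabilizer G b)
local notation "C" => stabilizer G a ⊓ stabilizer G b

include h h6 hl

omit hl in
theorem card_six : 6 ≤ Nat.card (orbit (A : Subgroup G) b) := by rw [h.left]; exact h6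

theorem altStab_le_img_inf : altStab (base (A : Subgroup G) b) ≤ img A b C := by
  intro g hg
  obtain ⟨hg1, hg2⟩ := mem_altStab.1 hg
  obtain ⟨x, rfl⟩ := hl hg1
  exact ⟨x, mem_subgroupOf.2 (Subgroup.mem_inf.2 ⟨x.2, act_base_iff.1 hg2⟩), rfl⟩

theorem dichotomy_inf {N : Subgroup G} (hN : N ≤ C) (hn : C ≤ normalizer (N : Set G)) :
    N ≤ X ∨ altStab (base (A : Subgroup G) b) ≤ img A b N := by
  rw [← img_eq_bot_iff (hN.trans inf_le_left)]
  exact eq_bot_or_altStab_le _ (card_six h h6) (img_fix (hN.trans inf_le_right))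
    ((altStab_le_img_inf h h6 hl).trans (img_normalized hn))

theorem dichotomy {N : Subgroup G} (hN : N ≤ A) (hn : A ≤ normalizer (N : Set G)) :
    N ≤ X ∨ alternatingGroup (orbit (A : Subgroup G) b) ≤ img A b N := by
  rw [← img_eq_bot_iff hN]
  refine eq_bot_or_alt_le (by have := card_six (b := b) h h6; omega) (hl.trans ?_)
  rw [range_eq_img]
  exact img_normalized hn

theorem inducedFittingFree : InducedFittingFree G a b := by
  by_contra hne
  set Q := img (A : Subgroup G) b B with hQdef
  haveI hnil : Group.IsNilpotent (Cfsg.fittingSubgroup Q) := Comp.fitting_isNilpotent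
  set N := (Cfsg.fittingSubgroup Q).map Q.subtype
  have hQ : altStab (base (A : Subgroup G) b) ≤ Q :=
    (altStab_le_img_inf h h6 hl).trans (img_mono _ _ inf_le_right)
  rcases eq_bot_or_altStab_le (N := N) (base (A : Subgroup G) b) (card_six h h6)
    (fun g hg => img_fix le_rfl g (map_subtype_le _ hg))
    (hQ.trans (Comp.normal_map_subtype_iff.1 inferInstance)) with h0 | h0
  · exact hne ((Subgroup.map_eq_bot_iff_of_injective _ Q.subtype_injective).1 h0)
  · refine altStab_not_nilpotent (base (A : Subgroup G) b) (card_six h h6)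
      (Comp.isNilpotent_of_le h0 ?_)
    exact (Group.isNilpotent_congr ((Cfsg.fittingSubgroup Q).equivMapOfInjective Q.subtype
      Q.subtype_injective)).1 hnil

theorem opIn_inf_bot (q : ℕ) [Fact q.Prime] : opIn q C = ⊥ :=
  h.opIn_inf_eq_bot (inducedFittingFree h h6 hl)

theorem eq_bot_of_nilpotent {N : Subgroup G} (hN : N ≤ C) (hn : C ≤ normalizer (N : Set G))
    (hnil : Group.IsNilpotent N) : N = ⊥ := by
  haveI : (N.subgroupOf (C : Subgroup G)).Normal := normal_subgroupOf_of_le_normalizer hn
  have h1 := Comp.le_fitting (N := N.subgroupOf (C : Subgroup G)) inferInstance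
    ((Group.isNilpotent_congr (subgroupOfEquivOfLe hN)).2 hnil)
  rw [h.fitting_inf_eq_bot (inducedFittingFree h h6 hl), le_bot_iff, subgroupOf_eq_bot] at h1
  exact disjoint_self.1 (h1.mono le_rfl hN)

theorem eq_bot_of_comm {N : Subgroup G} (hN : N ≤ C) (hn : C ≤ normalizer (N : Set G))
    (hc : N ≤ centralizer (N : Set G)) : N = ⊥ := by
  refine eq_bot_of_nilpotent h h6 hl hN hn ?_
  haveI : IsMulCommutative N :=
    ⟨⟨fun x y => Subtype.ext (mem_centralizer_iff.1 (hc y.2) x x.2)⟩⟩
  open scoped IsMulCommutative in exact inferInstance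

theorem eq_bot_of_no_comp {N : Subgroup G} (hN : N ≤ C) (hn : C ≤ normalizer (N : Set G))
    (hc : ∀ L, ¬ CompIn L N) : N = ⊥ := by
  refine eq_bot_of_comm h h6 hl hN hn (centralizer_le_of_forall N le_rfl ?_ fun q hq => ?_)
  · have : layerIn N = ⊥ := eq_bot_iff.2 (layerIn_le_of_forall fun L hL => absurd hL (hc L))
    rw [this]
    intro x _
    simp [mem_centralizer_iff]
  · haveI := Fact.mk hq
    have : opIn q N = ⊥ := eq_bot_iff.2 ((opIn_mono hN hn).trans (opIn_inf_bot h h6 hl q).le)
    rw [this]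
    intro x _
    simp [mem_centralizer_iff]

theorem cent_inf_core : cent (A : Subgroup G) B ⊓ X = ⊥ := by
  refine eq_bot_of_comm h h6 hl (inf_le_right.trans (coreIn_le _ _)) ?_ ?_
  · exact (le_inf (inf_le_left.trans (le_normalizer_cent _ _))
      (inf_le_left.trans (le_normalizer_coreIn _ _))).trans inf_normalizer_le_normalizer_inf
  · intro x hx
    exact centralizer_le (s := ((cent (A : Subgroup G) B ⊓ X : Subgroup G) : Set G))
      (fun y hy => (Subgroup.mem_inf.1 hy).2) (Subgroup.mem_inf.1 (Subgroup.mem_inf.1 hx).1).2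

/-- If the centralizer of the core is nontrivial it is transitive on the suborbit. -/
theorem exists_mem_cent (hK : cent (A : Subgroup G) B ≠ ⊥) {x : G} (hx : x ∈ A) :
    ∃ k ∈ cent (A : Subgroup G) B, k⁻¹ * x ∈ C := by
  have halt : alternatingGroup (orbit (A : Subgroup G) b) ≤ img A b (cent A B) := by
    refine (dichotomy h h6 hl inf_le_left (le_normalizer_cent _ _)).resolve_left fun h1 => hK ?_
    rw [← cent_inf_core h h6 hl, left_eq_inf]
    exact h1
  set β := base (A : Subgroup G) b
  set γ := act (A : Subgroup G) b ⟨x, hx⟩ β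
  obtain ⟨g, hg, hgβ⟩ : ∃ g ∈ alternatingGroup (orbit (A : Subgroup G) b), g β = γ := by
    by_cases hne : β = γ
    · exact ⟨1, one_mem _, hne⟩
    obtain ⟨δ, -, hδ⟩ := Finset.exists_mem_notMem_of_card_lt_card
      (s := {β, γ}) (t := (Finset.univ : Finset (orbit (A : Subgroup G) b)))
      (by rw [Finset.card_pair hne, Finset.card_univ, ← Nat.card_eq_fintype_card]
          have := card_six (b := b) h h6; omega)
    simp only [Finset.mem_insert, Finset.mem_singleton, not_or] at hδ
    refine ⟨Equiv.swap γ δ * Equiv.swap β δ, ?_, by simp⟩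
    rw [Equiv.Perm.mem_alternatingGroup, map_mul, Equiv.Perm.sign_swap (Ne.symm hδ.2),
      Equiv.Perm.sign_swap (Ne.symm hδ.1)]
    rfl
  obtain ⟨k, hk, rfl⟩ := halt hg
  refine ⟨k, mem_subgroupOf.1 hk, Subgroup.mem_inf.2 ⟨mul_mem (inv_mem k.2) hx, ?_⟩⟩
  have e : act (A : Subgroup G) b (k⁻¹ * ⟨x, hx⟩) β = β := by
    rw [map_mul, map_inv, Equiv.Perm.mul_apply, Equiv.Perm.inv_eq_iff_eq]
    exact hgβ.symm
  exact act_base_iff.1 e

/-- With a nontrivial centralizer, the intersection of the two cores is normalised by `A`. -/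
theorem le_normalizer_inf_cores (hK : cent (A : Subgroup G) B ≠ ⊥) :
    A ≤ normalizer ((X ⊓ Y : Subgroup G) : Set G) := by
  intro x hx
  obtain ⟨k, hk, hc⟩ := exists_mem_cent h h6 hl hK hx
  have h1 : k ∈ normalizer ((X ⊓ Y : Subgroup G) : Set G) :=
    centralizer_le_normalizer _ (centralizer_le (s := ((X ⊓ Y : Subgroup G) : Set G))
      (fun y hy => (Subgroup.mem_inf.1 hy).1) (Subgroup.mem_inf.1 hk).2)
  have h2 : k⁻¹ * x ∈ normalizer ((X ⊓ Y : Subgroup G) : Set G) :=
    ((le_inf (inf_le_left.trans (le_normalizer_coreIn A C))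
      (inf_le_right.trans (le_normalizer_coreIn B C))).trans
        inf_normalizer_le_normalizer_inf) hc
  simpa using mul_mem h1 h2

/-- If `Y` is trivial then so is `X`. -/
theorem core_ne_bot (hX : X ≠ (⊥ : Subgroup G)) : Y ≠ (⊥ : Subgroup G) := by
  intro hY
  have hB : Nat.card (B : Subgroup G) ∣ d.factorial := by
    have h1 := card_img (B : Subgroup G) a (N := B) le_rfl
    rw [inf_comm (B : Subgroup G) A, hY, inf_bot_eq, card_bot, mul_one] at h1
    rw [← h1, ← h.right, ← Nat.card_perm]
    exact card_subgroup_dvd_card _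
  have hA := card_img (A : Subgroup G) b (N := A) le_rfl
  rw [inf_eq_right.2 (coreIn_le_left _ _), ← h.card_eq, ← range_eq_img] at hA
  haveI : Nontrivial (orbit (A : Subgroup G) b) := by
    rw [← Finite.one_lt_card_iff_nontrivial, h.left]; omega
  have halt := two_mul_nat_card_alternatingGroup (α := orbit (A : Subgroup G) b)
  rw [Nat.card_perm, h.left] at halt
  have h2 : Nat.card (alternatingGroup (orbit (A : Subgroup G) b))
      ≤ Nat.card (act (A : Subgroup G) b).range := card_le_of_le hl
  have h3 : Nat.card (X : Subgroup G) ≤ 2 := by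
    have := Nat.le_of_dvd (Nat.factorial_pos d) hB
    rw [← hA] at this
    have h4 := (Nat.mul_le_mul_right _ h2).trans this
    rw [← halt, mul_comm 2] at h4
    exact Nat.le_of_mul_le_mul_left h4 Nat.card_pos
  apply hX
  refine eq_bot_of_comm h h6 hl (coreIn_le _ _) (inf_le_left.trans (le_normalizer_coreIn _ _)) ?_
  intro x hx
  rw [mem_centralizer_iff]
  intro y hy
  by_cases hx1 : x = 1
  · simp [hx1]
  by_cases hy1 : y = 1
  · simp [hy1]
  by_cases hxy : x = y
  · rw [hxy]
  exfalso
  have : ({1, x, y} : Finset G).card ≤ Nat.card (X : Subgroup G) := by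
    rw [Nat.card_eq_fintype_card, ← Finset.card_univ]
    refine Finset.card_le_card_of_surjOn (fun z : (X : Subgroup G) => (z : G)) ?_
    intro z hz
    simp only [Finset.coe_insert, Finset.coe_singleton, Set.mem_insert_iff,
      Set.mem_singleton_iff] at hz
    rcases hz with rfl | rfl | rfl
    · exact ⟨1, Finset.mem_univ _, rfl⟩
    · exact ⟨⟨_, hx⟩, Finset.mem_univ _, rfl⟩
    · exact ⟨⟨_, hy⟩, Finset.mem_univ _, rfl⟩
  rw [Finset.card_insert_of_notMem (by simp [Ne.symm hx1, Ne.symm hy1]),
    Finset.card_pair hxy] at this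
  omega

end One

end CfsgLib.ThompsonWielandt
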