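import Cfsg.Agent.KGroup.CharP
import Cfsg.Agent.Comp.Layer

/-!
# Subnormality inside a subgroup, components of a subgroup, `O^p` of subnormal subgroups
-/

set_option autoImplicit false

namespace CfsgLib.ThompsonWielandt

open Subgroup CfsgLib.CharP

variable {G : Type*} [Group G]

/-- `K` is a subnormal subgroup of `H`. -/
def SubnIn (K H : Subgroup G) : Prop := K ≤ H ∧ (K.subgroupOf H).IsSubnormal

theorem SubnIn.of_normalized {K H : Subgroup G} (h : K ≤ H) (hn : H ≤ normalizer (K : Set G)) :
    SubnIn K H :=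
  ⟨h, (normal_subgroupOf_of_le_normalizer hn).isSubnormal⟩

theorem SubnIn.trans {L K H : Subgroup G} (h₁ : SubnIn L K) (h₂ : SubnIn K H) : SubnIn L H := by
  refine ⟨h₁.1.trans h₂.1, IsSubnormal.trans (comap_mono h₁.1) ?_ h₂.2⟩
  let f : (K.subgroupOf H) →* K :=
    ((H.subtype).comp (K.subgroupOf H).subtype).codRestrict K fun x => mem_subgroupOf.1 x.2
  exact h₁.2.comap f

theorem SubnIn.restrict {L K H : Subgroup G} (h : SubnIn L H) (hLK : L ≤ K) (hKH : K ≤ H) :
    SubnIn L K :=
  ⟨hLK, h.2.comap (inclusion hKH)⟩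

/-- The subgroup generated by the elements of `K` of order prime to `p`. -/
def zr (p : ℕ) (K : Subgroup G) : Subgroup G := closure {g | g ∈ K ∧ (orderOf g).Coprime p}

theorem zr_le (p : ℕ) (K : Subgroup G) : zr p K ≤ K :=
  (closure_le _).2 fun _ hx => hx.1

theorem le_normalizer_closure_of_conj {S : Set G} {N : Subgroup G}
    (h : ∀ x ∈ N, ∀ s ∈ S, x * s * x⁻¹ ∈ S) : N ≤ normalizer (closure S : Set G) := by
  have key : ∀ x ∈ N, ∀ a ∈ closure S, x * a * x⁻¹ ∈ closure S := by
    intro x hx a ha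
    induction ha using closure_induction with
    | mem s hs => exact subset_closure (h x hx s hs)
    | one => simp
    | mul a b _ _ ha hb => simpa [mul_assoc] using mul_mem ha hb
    | inv a _ ha => simpa [mul_assoc] using inv_mem ha
  intro x hx
  rw [mem_normalizer_iff]
  refine fun a => ⟨key x hx a, fun ha => ?_⟩
  have := key x⁻¹ (inv_mem hx) _ ha
  simpa [mul_assoc] using this

theorem le_normalizer_zr {p : ℕ} {K N : Subgroup G} (h : N ≤ normalizer (K : Set G)) :
    N ≤ normalizer (zr p K : Set G) :=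
  le_normalizer_closure_of_conj fun x hx s hs =>
    ⟨(mem_normalizer_iff.1 (h hx) s).1 hs.1, by
      rw [show orderOf (x * s * x⁻¹) = orderOf s from (MulAut.conj x).orderOf_eq s]; exact hs.2⟩

theorem zr_map {G' : Type*} [Group G'] (p : ℕ) (e : G ≃* G') (K : Subgroup G) :
    (zr p K).map e.toMonoidHom = zr p (K.map e.toMonoidHom) := by
  rw [zr, zr, MonoidHom.map_closure]
  congr 1
  ext y
  constructor
  · rintro ⟨x, ⟨hx, hc⟩, rfl⟩
    exact ⟨mem_map_of_mem _ hx, by rwa [MulEquiv.coe_toMonoidHom, e.orderOf_eq]⟩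
  · rintro ⟨⟨x, hx, rfl⟩, hc⟩
    exact ⟨x, ⟨hx, by rwa [MulEquiv.coe_toMonoidHom, e.orderOf_eq] at hc⟩, rfl⟩

variable [Finite G]

theorem isPGroup_of_zr_eq_bot {p : ℕ} [Fact p.Prime] {K : Subgroup G} (h : zr p K = ⊥) :
    IsPGroup p K := by
  refine isPGroup_of_forall_eq_one fun x hx => Subtype.ext ?_
  have : (x : G) ∈ zr p K := subset_closure ⟨x.2, by rwa [Subgroup.orderOf_coe]⟩
  rw [h, mem_bot] at this
  simpa using this

/-- In a group, a subnormal subgroup of `p`-power index contains all elements of order prime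
to `p`. -/
theorem mem_of_subnormal_index {J : Type*} [Group J] [Finite J] {p : ℕ} {K : Subgroup J}
    (hK : K.IsSubnormal) {n : ℕ} (hi : K.index ∣ p ^ n) {x : J}
    (hx : (orderOf x).Coprime p) : x ∈ K := by
  induction hK with
  | top => exact mem_top x
  | step H M h_le _ hN ih =>
    have h2 : M.index ∣ p ^ n := (index_dvd_of_le h_le).trans hi
    have hxM := ih h2
    haveI := hN
    have h3 : (H.subgroupOf M).index ∣ p ^ n := by
      rw [← relIndex]
      exact (relIndex_dvd_index_of_le h_le).trans hi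
    have : orderOf (QuotientGroup.mk' (H.subgroupOf M) ⟨x, hxM⟩) = 1 := by
      refine Nat.eq_one_of_dvd_coprimes (hx.pow_right n) ?_ (((_root_.orderOf_dvd_natCard _).trans (index_eq_card (H.subgroupOf M)).symm.dvd).trans h3)
      rw [← Subgroup.orderOf_mk x hxM]
      exact orderOf_map_dvd _ _
    rw [orderOf_eq_one_iff] at this
    exact mem_subgroupOf.1 ((QuotientGroup.eq_one_iff _).1 this)

/-- Wielandt: `O_p(H)` normalises `O^p` of every subnormal subgroup of `H`. -/
theorem opIn_le_normalizer_zr {p : ℕ} [Fact p.Prime] {K H : Subgroup G} (hK : SubnIn K H) :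
    opIn p H ≤ normalizer (zr p K : Set G) := by
  have hKN : K ≤ normalizer (opIn p H : Set G) := hK.1.trans (le_normalizer_opIn H)
  have hJH : K ⊔ opIn p H ≤ H := sup_le hK.1 (opIn_le H)
  have hsub := hK.restrict le_sup_left hJH
  obtain ⟨n, hn⟩ := IsPGroup.iff_card.1 (isPGroup_opIn (p := p) H)
  have hidx : (K.subgroupOf (K ⊔ opIn p H)).index ∣ p ^ n := by
    rw [← relIndex, ← hn]
    have h1 := Solvable.card_sup_mul_card_inf hKN
    have h2 : K.relIndex (K ⊔ opIn p H) * Nat.card K = Nat.card ↥(K ⊔ opIn p H) := by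
      rw [relIndex, mul_comm, ← Nat.card_congr (subgroupOfEquivOfLe le_sup_left).toEquiv]
      exact card_mul_index _
    refine ⟨Nat.card ↥(K ⊓ opIn p H), ?_⟩
    refine Nat.eq_of_mul_eq_mul_right (Nat.card_pos (α := K)) ?_
    rw [mul_assoc, mul_comm (Nat.card ↥(K ⊓ opIn p H)), ← mul_assoc, h2, h1, mul_comm]
  have hzz : zr p K = zr p (K ⊔ opIn p H) := by
    refine le_antisymm (closure_mono fun x hx => ⟨mem_sup_left hx.1, hx.2⟩)
      (closure_mono fun x hx => ⟨?_, hx.2⟩)
    have := mem_of_subnormal_index hsub.2 hidx (x := ⟨x, hx.1⟩)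
      (by rw [Subgroup.orderOf_mk]; exact hx.2)
    exact mem_subgroupOf.1 this
  rw [hzz]
  exact le_sup_right.trans (le_normalizer_zr le_normalizer)

/-- `L` is a component of `H`. -/
def CompIn (L H : Subgroup G) : Prop := L ≤ H ∧ Cfsg.IsComponent (L.subgroupOf H)

theorem CompIn.subn {L H : Subgroup G} (h : CompIn L H) : SubnIn L H := ⟨h.1, h.2.1⟩

theorem compIn_iff {L H : Subgroup G} :
    CompIn L H ↔ SubnIn L H ∧ Cfsg.IsQuasisimple L := by
  constructor
  · exact fun h => ⟨h.subn, Comp.isQuasisimple_of_equiv (subgroupOfEquivOfLe h.1) h.2.2⟩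
  · exact fun h => ⟨h.1.1, h.1.2, Comp.isQuasisimple_of_equiv (subgroupOfEquivOfLe h.1.1).symm h.2⟩

theorem CompIn.restrict {L K H : Subgroup G} (h : CompIn L H) (hLK : L ≤ K) (hKH : K ≤ H) :
    CompIn L K :=
  compIn_iff.2 ⟨h.subn.restrict hLK hKH, (compIn_iff.1 h).2⟩

theorem CompIn.trans {L K H : Subgroup G} (h : CompIn L K) (hK : SubnIn K H) : CompIn L H :=
  compIn_iff.2 ⟨h.subn.trans hK, (compIn_iff.1 h).2⟩

/-- A component contains or centralizes every subnormal subgroup. -/
theorem CompIn.le_or_centralizes {L S H : Subgroup G} (hL : CompIn L H) (hS : SubnIn S H) :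
    L ≤ S ∨ L ≤ centralizer (S : Set G) := by
  rcases Comp.component_le_or_commutator_eq_bot hL.2 hS.2 with h | h
  · left
    have := map_mono (f := H.subtype) h
    rwa [map_subgroupOf_eq_of_le hL.1, map_subgroupOf_eq_of_le hS.1] at this
  · right
    have := congrArg (Subgroup.map H.subtype) h
    rw [map_commutator, map_subgroupOf_eq_of_le hL.1, map_subgroupOf_eq_of_le hS.1,
      Subgroup.map_bot] at this
    exact Comp.le_centralizer_of_commutator_eq_bot this

theorem CompIn.not_abelian {L H : Subgroup G} (hL : CompIn L H) :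
    ¬ L ≤ centralizer (L : Set G) := by
  intro h
  apply Comp.component_not_comm hL.2
  rw [commutator_eq_bot_iff_le_centralizer]
  intro x hx
  rw [mem_centralizer_iff]
  intro y hy
  exact Subtype.ext (mem_centralizer_iff.1 (h (mem_subgroupOf.1 hx)) y (mem_subgroupOf.1 hy))

theorem CompIn.normalizes {L S H : Subgroup G} (hL : CompIn L H) (hS : SubnIn S H) :
    L ≤ normalizer (S : Set G) := by
  rcases hL.le_or_centralizes hS with h | h
  · exact h.trans le_normalizer
  · exact h.trans (centralizer_le_normalizer _)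

theorem CompIn.centralizes_opIn {L H : Subgroup G} {p : ℕ} [Fact p.Prime] (hL : CompIn L H) :
    L ≤ centralizer (opIn p H : Set G) := by
  refine (hL.le_or_centralizes (SubnIn.of_normalized (opIn_le H)
    (le_normalizer_opIn H))).resolve_left fun h => ?_
  haveI : Group.IsNilpotent (opIn p H) := (isPGroup_opIn (p := p) H).isNilpotent
  have hs : Group.IsSolvable L := Group.isSolvable_of_isSolvable_injective
    (inclusion_injective h)
  exact Comp.quasisimple_not_solvable (compIn_iff.1 hL).2 hs

/-- The layer of `H`, inside `G`. -/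
def layerIn (H : Subgroup G) : Subgroup G := (Cfsg.layer H).map H.subtype

theorem CompIn.le_layerIn {L H : Subgroup G} (hL : CompIn L H) : L ≤ layerIn H := by
  rw [← map_subgroupOf_eq_of_le hL.1]
  exact map_mono (Comp.component_le_layer hL.2)

theorem layerIn_le_of_forall {H K : Subgroup G} (h : ∀ L, CompIn L H → L ≤ K) : layerIn H ≤ K := by
  rw [layerIn, map_le_iff_le_comap]
  refine Comp.layer_le fun L hL => ?_
  rw [← map_le_iff_le_comap]
  refine h _ ⟨map_subtype_le L, ?_⟩
  rwa [subgroupOf, comap_map_eq_self_of_injective H.subtype_injective]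

theorem layerIn_le (H : Subgroup G) : layerIn H ≤ H := map_subtype_le _

theorem le_normalizer_layerIn (H : Subgroup G) : H ≤ normalizer (layerIn H : Set G) :=
  Comp.normal_map_subtype_iff.1 inferInstance

theorem opIn_map (p : ℕ) [Fact p.Prime] (e : G ≃* G) (H : Subgroup G) :
    (opIn p H).map e.toMonoidHom = opIn p (H.map e.toMonoidHom) := by
  refine le_antisymm (opIn_map_equiv e H) ?_
  have h := opIn_map_equiv (p := p) e.symm (H.map e.toMonoidHom)
  have e1 : (H.map e.toMonoidHom).map e.symm.toMonoidHom = H := by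
    ext x
    simp [Subgroup.mem_map]
  rw [e1] at h
  intro x hx
  exact ⟨e.symm x, h ⟨x, hx, rfl⟩, by simp⟩

end CfsgLib.ThompsonWielandt
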